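import Mathlib.Data.ZMod.Basic
import Mathlib.Algebra.Field.ZMod
import Mathlib.Algebra.BigOperators.Group.Finset.Basic
import Mathlib.Algebra.BigOperators.Ring.Finset
import Mathlib.Data.Nat.Prime.Basic
import Mathlib.RingTheory.Multiplicity
import Mathlib.Data.ZMod.Units
import Mathlib.Tactic

/-!
Arithmetic in `ZMod n`: functions invariant under all unit multipliers, and functions which are constant
on the cosets of the subgroup of order `r`.
-/

set_option autoImplicit false
set_option linter.style.haveILetI false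

namespace CfsgLib.DihB

variable {n : ℕ}

/-- invariance under all unit multipliers -/
def Rat' {α : Type*} (f : ZMod n → α) : Prop := ∀ (u : (ZMod n)ˣ) (i : ZMod n), f (u * i) = f i

/-- constant on every fibre of multiplication by `r` -/
def Per {α : Type*} (r : ℕ) (f : ZMod n → α) : Prop :=
  ∀ i j : ZMod n, (r : ZMod n) * i = r * j → f i = f j

theorem exists_mul_eq [NeZero n] {r w : ℕ} (hn : n = r * w) {d : ZMod n} (hd : (r : ZMod n) * d = 0) :
    ∃ s : ℕ, s < r ∧ d = ((s * w : ℕ) : ZMod n) := by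
  have hn0 : n ≠ 0 := NeZero.ne n
  have hr : 0 < r := by
    rcases Nat.eq_zero_or_pos r with h | h
    · rw [h, zero_mul] at hn; exact absurd hn hn0
    · exact h
  have hdv : n ∣ r * d.val := by
    rw [← ZMod.natCast_eq_zero_iff, Nat.cast_mul, ZMod.natCast_zmod_val, hd]
  have hw : w ∣ d.val := by
    obtain ⟨t, ht⟩ := hdv
    refine ⟨t, Nat.eq_of_mul_eq_mul_left hr ?_⟩
    rw [ht, ← mul_assoc, ← hn]
  obtain ⟨s, hs⟩ := hw
  refine ⟨s, ?_, by rw [mul_comm s w, ← hs, ZMod.natCast_zmod_val]⟩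
  have h1 : w * s < w * r := by rw [← hs, mul_comm w r, ← hn]; exact d.val_lt
  exact Nat.lt_of_mul_lt_mul_left h1

theorem card_torsion [NeZero n] {r : ℕ} (hr : r ∣ n) :
    (Finset.univ.filter fun i : ZMod n => (r : ZMod n) * i = 0).card = r := by
  obtain ⟨w, hw⟩ := hr
  have hw0 : 0 < w := by
    rcases Nat.eq_zero_or_pos w with h | h
    · rw [h, mul_zero] at hw; exact absurd hw (NeZero.ne n)
    · exact h
  symm
  conv_lhs => rw [← Finset.card_range r]
  refine Finset.card_bij (fun s _ => ((s * w : ℕ) : ZMod n)) ?_ ?_ ?_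
  · intro s _
    simp only [Finset.mem_filter, Finset.mem_univ, true_and]
    rw [← Nat.cast_mul, ZMod.natCast_eq_zero_iff, hw]
    exact ⟨s, by ring⟩
  · intro a ha b hb h
    simp only [Finset.mem_range] at ha hb
    have hlt : ∀ s < r, s * w < n := fun s hs => by rw [hw]; exact Nat.mul_lt_mul_of_pos_right hs hw0
    have h' := congrArg ZMod.val h
    rw [ZMod.val_natCast_of_lt (hlt a ha), ZMod.val_natCast_of_lt (hlt b hb)] at h'
    exact Nat.eq_of_mul_eq_mul_right hw0 h'
  · intro d hd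
    simp only [Finset.mem_filter, Finset.mem_univ, true_and] at hd
    obtain ⟨s, hs, hd'⟩ := exists_mul_eq hw hd
    exact ⟨s, Finset.mem_range.2 hs, hd'.symm⟩

theorem card_fibre [NeZero n] {r : ℕ} (hr : r ∣ n) (e : ZMod n) :
    (Finset.univ.filter fun i : ZMod n => (r : ZMod n) * i = r * e).card = r := by
  conv_rhs => rw [← card_torsion hr]
  refine Finset.card_bij (fun i _ => i - e) ?_ (fun a _ b _ h => sub_left_injective h) ?_
  · intro i hi
    simp only [Finset.mem_filter, Finset.mem_univ, true_and] at hi ⊢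
    rw [mul_sub, hi, sub_self]
  · intro d hd
    simp only [Finset.mem_filter, Finset.mem_univ, true_and] at hd
    exact ⟨d + e, by simp [mul_add, hd], by simp⟩

theorem sum_fibre [NeZero n] {R : Type*} [CommRing R] {r : ℕ} (hr : r ∣ n) {f : ZMod n → R}
    (hf : Per r f) (e : ZMod n) :
    ∑ i ∈ Finset.univ.filter (fun i : ZMod n => (r : ZMod n) * i = r * e), f i = (r : R) * f e := by
  rw [Finset.sum_congr rfl (fun i hi => hf i e (Finset.mem_filter.1 hi).2), Finset.sum_const,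
    card_fibre hr, nsmul_eq_mul]

theorem dvd_sum_per [NeZero n] {R : Type*} [CommRing R] {r : ℕ} (hr : r ∣ n) {f : ZMod n → R}
    (hf : Per r f) {d : R} (hd : ∀ i, d ∣ f i) : (r : R) * d ∣ ∑ i, f i := by
  rw [← Finset.sum_fiberwise Finset.univ (fun i : ZMod n => (r : ZMod n) * i) f]
  refine Finset.dvd_sum fun c _ => ?_
  by_cases hc : ∃ e : ZMod n, (r : ZMod n) * e = c
  · obtain ⟨e, rfl⟩ := hc
    rw [sum_fibre hr hf e]
    exact mul_dvd_mul_left _ (hd e)
  · rw [Finset.sum_eq_zero]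
    · exact dvd_zero _
    · intro i hi
      exact absurd ⟨i, (Finset.mem_filter.1 hi).2⟩ hc

theorem natCast_dvd_sum_per [NeZero n] {R : Type*} [CommRing R] {r : ℕ} (hr : r ∣ n) {f : ZMod n → R}
    (hf : Per r f) : (r : R) ∣ ∑ i, f i := by
  simpa using dvd_sum_per hr hf (d := 1) fun i => one_dvd _

section Shell

variable [NeZero n] {r m c : ℕ} [Fact r.Prime]

omit [NeZero n] in
theorem natCast_mul_ne_zero (hm : ¬ r ∣ m) {d : ZMod n}
    (hd : (r : ZMod n) * d = 0) (hd0 : d ≠ 0) : (m : ZMod n) * d ≠ 0 := by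
  intro h
  apply hd0
  have hco : Nat.Coprime m r := ((Fact.out : r.Prime).coprime_iff_not_dvd.2 hm).symm
  have h1 := congrArg (fun t : ℤ => (t : ZMod n)) (Nat.gcd_eq_gcd_ab m r)
  simp only [hco.gcd_eq_one, Nat.cast_one, Int.cast_one, Int.cast_add, Int.cast_mul,
    Int.cast_natCast] at h1
  calc d = 1 * d := (one_mul d).symm
    _ = ((m : ZMod n) * (Nat.gcdA m r : ZMod n) + (r : ZMod n) * (Nat.gcdB m r : ZMod n)) * d := by rw [h1]
    _ = (Nat.gcdA m r : ZMod n) * ((m : ZMod n) * d) + (Nat.gcdB m r : ZMod n) * ((r : ZMod n) * d) := by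
        ring
    _ = 0 := by rw [h, hd]; ring

omit [Fact r.Prime] [NeZero n] in
theorem dvd_of_shell (hn : n = m * r ^ c) (hc : c ≠ 0) : r ∣ n := by
  rw [hn]; exact Dvd.dvd.mul_left (dvd_pow_self r hc) m

theorem exists_unit_mul (hn : n = m * r ^ c) (hc : c ≠ 0) {i i' : ZMod n}
    (hi : (m : ZMod n) * i ≠ 0) (hi' : (m : ZMod n) * i' ≠ 0) (he : (r : ZMod n) * i = r * i') :
    ∃ u : (ZMod n)ˣ, (u : ZMod n) * i = i' := by
  have hr : r.Prime := Fact.out
  obtain ⟨c', rfl⟩ := Nat.exists_eq_succ_of_ne_zero hc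
  have hnw : n = r * (m * r ^ c') := by rw [hn, pow_succ]; ring
  obtain ⟨s, -, hs⟩ := exists_mul_eq hnw (d := i' - i) (by rw [mul_sub, he, sub_self])
  have hv : ¬ r ^ (c' + 1) ∣ i.val := by
    intro h
    apply hi
    rw [← ZMod.natCast_zmod_val i, ← Nat.cast_mul, ZMod.natCast_eq_zero_iff]
    conv_lhs => rw [hn]
    exact Nat.mul_dvd_mul_left m h
  have hv0 : i.val ≠ 0 := fun h => hv (h ▸ dvd_zero _)
  obtain ⟨t, v0, hv0r, hvt⟩ := Nat.exists_eq_pow_mul_and_not_dvd hv0 r hr.ne_one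
  have htc : t ≤ c' := by
    by_contra h
    exact hv (hvt ▸ Dvd.dvd.mul_right (pow_dvd_pow r (by omega)) _)
  haveI : NeZero r := ⟨hr.ne_zero⟩
  set x : ℕ := ((s : ZMod r) / (v0 : ZMod r)).val with hx
  have hx' : v0 * x ≡ s [MOD r] := by
    rw [← ZMod.natCast_eq_natCast_iff, Nat.cast_mul, hx, ZMod.natCast_zmod_val,
      mul_div_cancel₀]
    rwa [Ne, ZMod.natCast_eq_zero_iff]
  set k := 1 + x * r ^ (c' - t) * m with hk
  have hik : ((k : ℕ) : ZMod n) * i = i' := by
    have h2 : i.val * k = i.val + v0 * x * (m * r ^ c') := by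
      have h3 : r ^ t * r ^ (c' - t) = r ^ c' := by rw [← pow_add]; congr 1; omega
      rw [hk, hvt, ← h3]; ring
    have h4 : ((v0 * x * (m * r ^ c') : ℕ) : ZMod n) = ((s * (m * r ^ c') : ℕ) : ZMod n) := by
      rw [ZMod.natCast_eq_natCast_iff]
      have h5 := hx'.mul_right' (m * r ^ c')
      rwa [← hnw] at h5
    calc ((k : ℕ) : ZMod n) * i = ((i.val * k : ℕ) : ZMod n) := by
          rw [Nat.cast_mul, ZMod.natCast_zmod_val, mul_comm]
      _ = i + ((s * (m * r ^ c') : ℕ) : ZMod n) := by rw [h2, Nat.cast_add, ZMod.natCast_zmod_val, h4]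
      _ = i' := by rw [← hs]; ring
  have hkr : ¬ r ∣ k := by
    intro hdk
    rcases lt_or_eq_of_le htc with hlt | heq
    · apply hr.not_dvd_one
      have h5 : r ∣ x * r ^ (c' - t) * m :=
        Dvd.dvd.mul_right (Dvd.dvd.mul_left (dvd_pow_self r (by omega)) x) m
      rw [hk] at hdk
      exact (Nat.dvd_add_left h5).1 hdk
    · apply hi'
      rw [← hik, ← ZMod.natCast_zmod_val i, ← Nat.cast_mul, ← Nat.cast_mul, ZMod.natCast_eq_zero_iff]
      conv_lhs => rw [hn]
      refine Nat.mul_dvd_mul_left m ?_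
      obtain ⟨k', hk'⟩ := hdk
      exact ⟨v0 * k', by rw [hvt, hk', heq, pow_succ]; ring⟩
  have hkn : Nat.Coprime k n := by
    rw [hn]
    refine Nat.Coprime.mul_right ?_ (Nat.Coprime.pow_right _ ((hr.coprime_iff_not_dvd.2 hkr).symm))
    rw [hk, Nat.coprime_add_mul_right_left]
    exact Nat.coprime_one_left m
  exact ⟨ZMod.unitOfCoprime k hkn, by rw [ZMod.coe_unitOfCoprime]; exact hik⟩

theorem Rat'.eq_of_shell {α : Type*} {f : ZMod n → α} (hf : Rat' f) (hn : n = m * r ^ c) (hc : c ≠ 0)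
    {i i' : ZMod n}
    (hi : (m : ZMod n) * i ≠ 0) (hi' : (m : ZMod n) * i' ≠ 0) (he : (r : ZMod n) * i = r * i') :
    f i = f i' := by
  obtain ⟨u, hu⟩ := exists_unit_mul hn hc hi hi' he
  rw [← hu, hf u i]

omit [NeZero n] in
/-- two elements killed by `m` in one fibre of multiplication by `r` are equal -/
theorem eq_of_fibre (hm : ¬ r ∣ m) {i i' : ZMod n}
    (hi : (m : ZMod n) * i = 0) (hi' : (m : ZMod n) * i' = 0) (he : (r : ZMod n) * i = r * i') :
    i = i' := by
  by_contra h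
  exact natCast_mul_ne_zero hm (d := i - i') (by rw [mul_sub, he, sub_self]) (sub_ne_zero.2 h)
    (by rw [mul_sub, hi, hi', sub_self])

end Shell

end CfsgLib.DihB
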