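import Mathlib.GroupTheory.GroupAction.Primitive
import Mathlib.GroupTheory.SpecificGroups.Dihedral
import Mathlib.GroupTheory.Index
import Mathlib.Algebra.Group.TypeTags.Hom
import Mathlib.Algebra.BigOperators.Group.Finset.Basic
import Mathlib.Algebra.BigOperators.Ring.Finset
import Mathlib.Tactic

/-!
Functions invariant under the stabiliser of the identity, for a primitive action on a group containing all
left translations; special features when that group is dihedral.
-/

set_option autoImplicit false
set_option linter.style.haveILetI false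

namespace CfsgLib.DihB

open scoped Pointwise

variable {G K : Type*} [Group G] [Group K] [MulAction G K]

/-- the action contains every left translation -/
def Trans (G K : Type*) [Group G] [Group K] [MulAction G K] : Prop :=
  ∀ k : K, ∃ g : G, ∀ x : K, g • x = k * x

/-- invariance under the stabiliser of the identity -/
def Inv (G : Type*) {K α : Type*} [Group G] [Group K] [MulAction G K] (f : K → α) : Prop :=
  ∀ g : G, g • (1 : K) = 1 → ∀ x, f (g • x) = f x

theorem inv_const {α : Type*} (a : α) : Inv G (fun _ : K => a) := fun _ _ _ => rfl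

theorem inv_delta {α : Type*} (h : Prop → α) : Inv G (fun x : K => h (x = 1)) := by
  intro g hg x
  have : g • x = 1 ↔ x = 1 := ⟨fun e => MulAction.injective g (e.trans hg.symm), fun e => e ▸ hg⟩
  simp only [this]

theorem Inv.map {α β : Type*} {f : K → α} (hf : Inv G f) (h : α → β) : Inv G (fun x => h (f x)) :=
  fun g hg x => congrArg h (hf g hg x)

theorem Inv.map₂ {α β γ : Type*} {f : K → α} {f' : K → β} (hf : Inv G f) (hf' : Inv G f')
    (h : α → β → γ) : Inv G (fun x => h (f x) (f' x)) :=
  fun g hg x => by simp only [hf g hg x, hf' g hg x]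

theorem Inv.pair {α : Type*} {f : K → α} (hf : Inv G f) (hT : Trans G K) (g : G) (a b : K) :
    f ((g • a)⁻¹ * (g • b)) = f (a⁻¹ * b) := by
  obtain ⟨u, hu⟩ := hT a
  obtain ⟨v, hv⟩ := hT (g • a)⁻¹
  have h1 : (v * g * u) • (1 : K) = 1 := by
    rw [mul_smul, mul_smul, hu, mul_one, hv, inv_mul_cancel]
  have h := hf _ h1 (a⁻¹ * b)
  rwa [mul_smul, mul_smul, hu, mul_inv_cancel_left, hv] at h

theorem Inv.comp_inv {α : Type*} {f : K → α} (hf : Inv G f) (hT : Trans G K) :
    Inv G (fun x => f x⁻¹) := by
  intro g hg x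
  have h := hf.pair hT g x 1
  simpa [hg] using h

theorem Inv.conv [Fintype K] {R : Type*} [CommRing R] {f f' : K → R} (hf : Inv G f) (hf' : Inv G f')
    (hT : Trans G K) : Inv G (fun x => ∑ y, f y * f' (y⁻¹ * x)) := by
  intro g hg x
  refine (Fintype.sum_equiv (MulAction.toPerm g) _ _ fun y => ?_).symm
  simp only [MulAction.toPerm_apply]
  rw [hf g hg y, hf'.pair hT g y x]

theorem inv_closure {S : Set K} (hS : Inv G (fun x => x ∈ S)) (hT : Trans G K) :
    Inv G (fun x => x ∈ Subgroup.closure S) := by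
  have key : ∀ x ∈ Subgroup.closure S, ∀ g : G, g • (1 : K) = 1 → g • x ∈ Subgroup.closure S := by
    intro x hx
    induction hx using Subgroup.closure_induction_right with
    | one => intro g hg; rw [hg]; exact one_mem _
    | mul_right x _ y hy ih =>
      intro g hg
      have h : (g • x)⁻¹ * (g • (x * y)) ∈ S := by
        rw [hS.pair hT g x (x * y), inv_mul_cancel_left]; exact hy
      have := mul_mem (ih g hg) (Subgroup.subset_closure h)
      rwa [mul_inv_cancel_left] at this
    | mul_inv_cancel x _ y hy ih =>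
      intro g hg
      have h : (g • (x * y⁻¹))⁻¹ * (g • x) ∈ S := by
        rw [hS.pair hT g (x * y⁻¹) x, mul_inv_rev, inv_inv, inv_mul_cancel_right]; exact hy
      have := mul_mem (ih g hg) (inv_mem (Subgroup.subset_closure h))
      rwa [mul_inv_rev, inv_inv, mul_inv_cancel_left] at this
  intro g hg x
  refine propext ⟨fun h => ?_, fun h => key x h g hg⟩
  have := key _ h g⁻¹ (by rw [inv_smul_eq_iff, hg])
  rwa [inv_smul_smul] at this

variable [MulAction.IsPreprimitive G K]

theorem eq_bot_or_top (hT : Trans G K) (H : Subgroup K)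
    (hH : Inv G (fun x => x ∈ H)) : H = ⊥ ∨ H = ⊤ := by
  have hblock : MulAction.IsBlock G (H : Set K) := by
    intro g₁ g₂ hne
    rw [Set.disjoint_left]
    rintro x ⟨a, ha, rfl⟩ ⟨b, hb, hab⟩
    apply hne
    have himg : ∀ (g : G) (a : K), a ∈ H → g • (H : Set K) = {y | (g • a)⁻¹ * y ∈ H} := by
      intro g a ha
      ext y
      obtain ⟨z, rfl⟩ := MulAction.surjective g y
      rw [Set.smul_mem_smul_set_iff, Set.mem_ofPred_eq, SetLike.mem_coe, hH.pair hT g a z]
      exact (H.mul_mem_cancel_left (H.inv_mem ha)).symm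
    rw [himg g₁ a ha, himg g₂ b hb]
    dsimp only at hab
    rw [hab]
  rcases MulAction.IsPreprimitive.isTrivialBlock_of_isBlock hblock with h | h
  · exact Or.inl ((Subgroup.eq_bot_iff_forall _).2 fun x hx => h hx H.one_mem)
  · exact Or.inr (SetLike.coe_injective (by simpa using h))

/-- an invariant function with a nontrivial left period is constant -/
theorem const_of_period (hT : Trans G K) {α : Type*} {f : K → α} (hf : Inv G f) {a : K} (ha : a ≠ 1)
    (hper : ∀ x, f (a * x) = f x) (x : K) : f x = f 1 := by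
  let R : Subgroup K :=
    { carrier := {k | ∀ y, f (k * y) = f y}
      one_mem' := fun y => by rw [one_mul]
      mul_mem' := fun {k l} hk hl y => by rw [mul_assoc, hk, hl]
      inv_mem' := fun {k} hk y => by rw [← hk (k⁻¹ * y), mul_inv_cancel_left] }
  have hmem : ∀ k, k ∈ R ↔ ∀ y, f (k * y) = f y := fun _ => Iff.rfl
  have hR : ∀ k, k ∈ R ↔ ∀ y, f (k⁻¹ * y) = f ((1 : K)⁻¹ * y) := by
    intro k
    rw [← inv_mem_iff, hmem]
    simp
  have hRi : Inv G (fun k => k ∈ R) := by
    intro g hg k
    refine propext ?_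
    beta_reduce
    rw [hR, hR]
    refine (MulAction.surjective g).forall.trans (forall_congr' fun y => ?_)
    have h1 := hf.pair hT g 1 y
    rw [hg] at h1
    rw [hf.pair hT g k y, h1]
  rcases eq_bot_or_top hT R hRi with h | h
  · have : a ∈ R := hper
    rw [h, Subgroup.mem_bot] at this
    exact absurd this ha
  · have : x ∈ R := h ▸ Subgroup.mem_top x
    simpa using this 1

end CfsgLib.DihB

namespace CfsgLib.DihB

open DihedralGroup

variable {G : Type*} [Group G] {n : ℕ}

/-- the embedding of the rotations -/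
def rotHom (n : ℕ) : Multiplicative (ZMod n) →* DihedralGroup n where
  toFun i := r i.toAdd
  map_one' := r_zero
  map_mul' i j := by simp

theorem mem_range_rotHom {x : DihedralGroup n} : x ∈ (rotHom n).range ↔ ∃ i, x = r i := by
  constructor
  · rintro ⟨i, rfl⟩; exact ⟨i.toAdd, rfl⟩
  · rintro ⟨i, rfl⟩; exact ⟨Multiplicative.ofAdd i, rfl⟩

theorem range_rotHom_ne_top : (rotHom n).range ≠ ⊤ := by
  intro h
  have : (sr 0 : DihedralGroup n) ∈ (rotHom n).range := h ▸ Subgroup.mem_top _
  obtain ⟨i, hi⟩ := mem_range_rotHom.1 this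
  exact nomatch hi

variable [MulAction G (DihedralGroup n)] [MulAction.IsPreprimitive G (DihedralGroup n)]

theorem empty_of_subset_range (hT : Trans G (DihedralGroup n)) {S : Set (DihedralGroup n)}
    (hS : Inv G (fun x => x ∈ S)) (h : ∀ x ∈ S, ∃ i, x = r i) : ∀ x ∈ S, x = 1 := by
  have hle : Subgroup.closure S ≤ (rotHom n).range :=
    (Subgroup.closure_le _).2 fun x hx => mem_range_rotHom.2 (h x hx)
  have hbot := (eq_bot_or_top hT _ (inv_closure hS hT)).resolve_right fun ht =>
    range_rotHom_ne_top (top_le_iff.1 (ht ▸ hle))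
  intro x hx
  have := Subgroup.subset_closure hx (k := S)
  rwa [hbot, Subgroup.coe_bot, Set.mem_singleton_iff] at this

variable [NeZero n]

/-- an invariant set contains either a rotation different from the identity, or nothing but the
identity -/
theorem eq_one_of_no_rot (hT : Trans G (DihedralGroup n)) (hn : 1 < n) {S : Set (DihedralGroup n)}
    (hS : Inv G (fun x => x ∈ S)) (h : ∀ i : ZMod n, i ≠ 0 → r i ∉ S) : ∀ x ∈ S, x = 1 := by
  classical
  by_contra hc
  push Not at hc
  obtain ⟨s, hs, hs1⟩ := hc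
  let S' : Set (DihedralGroup n) := {x | x ∈ S ∧ x ≠ 1}
  have hS' : Inv G (fun x => x ∈ S') := hS.map₂ (inv_delta fun p => ¬p) fun a b => a ∧ b
  have hrefl : ∀ x ∈ S', ∃ i, x = sr i := by
    rintro (i | i) ⟨hi, hi1⟩
    · exact absurd hi (h i fun h0 => hi1 (by rw [h0, r_zero]))
    · exact ⟨i, rfl⟩
  let Z : Set (DihedralGroup n) := {x | ∃ y ∈ S', x⁻¹ * y ∈ S'}
  have hZ : Inv G (fun x => x ∈ Z) := by
    intro g hg x
    refine propext ?_
    change (∃ y ∈ S', (g • x)⁻¹ * y ∈ S') ↔ ∃ y ∈ S', x⁻¹ * y ∈ S'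
    refine (MulAction.surjective g).exists.trans (exists_congr fun y => ?_)
    exact iff_of_eq (congrArg₂ And (hS' g hg y) (hS'.pair hT g x y))
  have hZrot : ∀ x ∈ Z, ∃ i, x = r i := by
    rintro (i | i) ⟨y, hy, hy'⟩
    · exact ⟨i, rfl⟩
    · obtain ⟨a, rfl⟩ := hrefl y hy
      obtain ⟨b, hb⟩ := hrefl _ hy'
      rw [inv_sr, sr_mul_sr] at hb
      exact nomatch hb
  have huniq : ∀ y ∈ S', y = s := by
    intro y hy
    have : y * s⁻¹ ∈ Z := ⟨y, hy, by rw [mul_inv_rev, inv_inv, inv_mul_cancel_right]; exact ⟨hs, hs1⟩⟩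
    exact mul_inv_eq_one.1 (empty_of_subset_range hT hZ hZrot _ this)
  obtain ⟨a, rfl⟩ := hrefl s ⟨hs, hs1⟩
  rcases eq_bot_or_top hT _ (inv_closure hS' hT) with hb | ht
  · have := Subgroup.subset_closure (k := S') (⟨hs, hs1⟩ : (sr a : DihedralGroup n) ∈ S')
    rw [hb, Subgroup.coe_bot, Set.mem_singleton_iff] at this
    exact hs1 this
  · have hle : Subgroup.closure S' ≤ Subgroup.zpowers (sr a) :=
      (Subgroup.closure_le _).2 fun y hy => by rw [huniq y hy]; exact Subgroup.mem_zpowers _
    rw [ht, top_le_iff] at hle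
    have := congrArg (fun H : Subgroup (DihedralGroup n) => Nat.card H) hle
    simp only [Nat.card_zpowers, orderOf_sr, Subgroup.card_top, nat_card] at this
    omega

/-- an invariant function is determined away from the identity by its values on rotations -/
theorem ext_rot (hT : Trans G (DihedralGroup n)) (hn : 1 < n) {α : Type*} {f f' : DihedralGroup n → α}
    (hf : Inv G f) (hf' : Inv G f') (h : ∀ i : ZMod n, i ≠ 0 → f (r i) = f' (r i))
    {x : DihedralGroup n} (hx : x ≠ 1) : f x = f' x := by
  by_contra hc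
  exact hx (eq_one_of_no_rot hT hn (S := {y | f y ≠ f' y}) (hf.map₂ hf' fun a b => a ≠ b)
    (fun i hi hmem => hmem (h i hi)) x hc)

omit [NeZero n] in
/-- invariant functions are symmetric -/
theorem Inv.symm (hT : Trans G (DihedralGroup n)) {α : Type*} {f : DihedralGroup n → α}
    (hf : Inv G f) (x : DihedralGroup n) : f x⁻¹ = f x := by
  by_contra hc
  have hS : Inv G (fun y => y ∈ {y : DihedralGroup n | f y⁻¹ ≠ f y}) :=
    (hf.comp_inv hT).map₂ hf fun a b => a ≠ b
  have := empty_of_subset_range hT hS (fun y hy => by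
    rcases y with i | i
    · exact ⟨i, rfl⟩
    · exact absurd (by rw [inv_sr]) hy) x hc
  rw [this, inv_one] at hc
  exact hc rfl

omit [NeZero n] in
theorem Inv.symm_rot (hT : Trans G (DihedralGroup n)) {α : Type*} {f : DihedralGroup n → α}
    (hf : Inv G f) (i : ZMod n) : f (r (-i)) = f (r i) := by
  rw [← inv_r]; exact hf.symm hT (r i)

end CfsgLib.DihB
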