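import Cfsg.Agent.Lib.DihB.Power
import Cfsg.Agent.Lib.DihB.Arith

/-!
An invariant integer function on a dihedral group whose rotation part is preserved by all unit multipliers and
whose reflection part has period of prime order is constant away from the identity.
-/

set_option autoImplicit false
set_option linter.style.haveILetI false

namespace CfsgLib.DihB

open DihedralGroup

variable {G : Type*} [Group G] {n : ℕ} [NeZero n] [MulAction G (DihedralGroup n)]
  [MulAction.IsPreprimitive G (DihedralGroup n)]
variable {l m c : ℕ} [Fact l.Prime]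

theorem exists_period (hn : n = m * l ^ c) (hc : c ≠ 0) :
    ∃ w : ZMod n, w ≠ 0 ∧ (l : ZMod n) * w = 0 := by
  have h := card_torsion (dvd_of_shell hn hc)
  by_contra hc'
  push Not at hc'
  have : Finset.univ.filter (fun i : ZMod n => (l : ZMod n) * i = 0) = {0} := by
    ext i
    simp only [Finset.mem_filter, Finset.mem_univ, true_and, Finset.mem_singleton]
    exact ⟨fun hi => by_contra fun h0 => hc' i h0 hi, fun hi => by rw [hi, mul_zero]⟩
  rw [this, Finset.card_singleton] at h
  exact (Fact.out : l.Prime).ne_one h.symm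

omit [MulAction G (DihedralGroup n)] [MulAction.IsPreprimitive G (DihedralGroup n)] [NeZero n] in
theorem sr_ne_one (i : ZMod n) : (sr i : DihedralGroup n) ≠ 1 := by
  rw [DihedralGroup.one_def]; nofun

omit [MulAction G (DihedralGroup n)] [MulAction.IsPreprimitive G (DihedralGroup n)] in
/-- a function preserved by unit multipliers has period `w` as soon as it has it at the exceptional
points -/
theorem per_of_exc (hn : n = m * l ^ c) (hc : c ≠ 0) (hm : ¬ l ∣ m) {w : ZMod n} (hw : w ≠ 0)
    (hlw : (l : ZMod n) * w = 0) {α : Type*} {f : ZMod n → α} (hf : Rat' f) (h0 : f 0 = f w)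
    (he : ∀ e, e ≠ 0 → (m : ZMod n) * e = 0 → f e = f (e + w)) : Per l f := by
  have key : ∀ e j : ZMod n, (m : ZMod n) * e = 0 → (m : ZMod n) * j ≠ 0 →
      (l : ZMod n) * e = l * j → f e = f j := by
    intro e j hme hmj hlej
    have hmw : (m : ZMod n) * (e + w) ≠ 0 := by
      rw [mul_add, hme, zero_add]; exact natCast_mul_ne_zero hm hlw hw
    have h1 : f e = f (e + w) := by
      rcases eq_or_ne e 0 with rfl | hne
      · rw [zero_add]; exact h0
      · exact he e hne hme
    rw [h1]
    exact hf.eq_of_shell hn hc hmw hmj (by rw [mul_add, hlw, add_zero, hlej])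
  intro i j hij
  by_cases hi : (m : ZMod n) * i = 0 <;> by_cases hj : (m : ZMod n) * j = 0
  · rw [eq_of_fibre hm hi hj hij]
  · exact key i j hi hj hij
  · exact (key j i hj hi hij.symm).symm
  · exact hf.eq_of_shell hn hc hi hj hij

theorem core_const {α : Type*} (hT : Trans G (DihedralGroup n)) {w : ZMod n} (hw : w ≠ 0)
    (hlw : (l : ZMod n) * w = 0) {f : DihedralGroup n → α} (hf : Inv G f)
    (hA : Per l fun i => f (r i)) (hB : Per l fun i => f (sr i)) (x : DihedralGroup n) : f x = f 1 := by
  refine const_of_period hT hf (a := r w) (fun h => hw ?_) (fun y => ?_) x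
  · rw [DihedralGroup.one_def] at h
    exact DihedralGroup.r.inj h
  · rcases y with i | i
    · rw [r_mul_r]
      exact hA _ _ (by rw [mul_add, hlw, zero_add])
    · rw [r_mul_sr]
      exact hB _ _ (by rw [mul_sub, hlw, sub_zero])

theorem core_dvd_step (hT : Trans G (DihedralGroup n)) (hn : n = m * l ^ c)
    (hc : c ≠ 0) (hm : ¬ l ∣ m) {w : ZMod n} (hw : w ≠ 0) (hlw : (l : ZMod n) * w = 0)
    {W : DihedralGroup n → ℤ} (hW : Inv G W) (hA : Rat' fun i => W (r i))
    (hB : Per l fun i => W (sr i)) {e : ZMod n} (he0 : e ≠ 0) (hme : (m : ZMod n) * e = 0) :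
    (l : ℤ) ∣ W (r e) - W (r (e + w)) := by
  classical
  let f : DihedralGroup n → ZMod l := fun x => (W x : ZMod l)
  have hf : Inv G f := hW.map _
  have hbb : ∀ d, ∑ i, f (sr i) * f (sr (i + d)) = 0 := by
    intro d
    have h := natCast_dvd_sum_per (R := ZMod l) (dvd_of_shell hn hc)
      (f := fun i => f (sr i) * f (sr (i + d))) (fun i j hij => by
        have h1 : W (sr i) = W (sr j) := hB i j hij
        have h2 : W (sr (i + d)) = W (sr (j + d)) := hB _ _ (by rw [mul_add, mul_add, hij])
        simp only [f, h1, h2])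
    rwa [ZMod.natCast_self, zero_dvd_iff] at h
  set g : DihedralGroup n → ZMod l := fun x => (ofK f ^ l).coeff x with hgdef
  have hg : Inv G g := inv_pow_coeff hT hf
  have hgr : ∀ i, g (sr i) = 0 := (pow_coeff f (hf.symm_rot hT)).2 hbb
  have hle : (l : ZMod n) * e ≠ 0 := fun h => he0 (eq_of_fibre hm hme (mul_zero _) (by rw [h, mul_zero]))
  have hzero : g (r ((l : ZMod n) * e)) = 0 := by
    by_contra h
    have := empty_of_subset_range hT (S := {x | g x ≠ 0}) (hg.map fun a => a ≠ 0) (fun x hx => by
      rcases x with i | i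
      · exact ⟨i, rfl⟩
      · exact absurd (hgr i) hx) _ h
    rw [DihedralGroup.one_def] at this
    exact hle (DihedralGroup.r.inj this)
  have hmw : (m : ZMod n) * (e + w) ≠ 0 := by
    rw [mul_add, hme, zero_add]; exact natCast_mul_ne_zero hm hlw hw
  have hsum : g (r ((l : ZMod n) * e)) = f (r e) - f (r (e + w)) := by
    rw [hgdef]
    dsimp only
    rw [(pow_coeff f (hf.symm_rot hT)).1 (Or.inr hbb)]
    set F := Finset.univ.filter fun i : ZMod n => (l : ZMod n) * i = l * e
    have h1 : ∑ i ∈ F, (f (r i) - f (r (e + w))) = f (r e) - f (r (e + w)) := by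
      refine Finset.sum_eq_single e (fun i hi hne => ?_) (fun h => absurd (by simp [F]) h)
      rw [sub_eq_zero]
      have hi' : (l : ZMod n) * i = l * e := (Finset.mem_filter.1 hi).2
      have hmi : (m : ZMod n) * i ≠ 0 := fun h => hne (eq_of_fibre hm h hme hi')
      have : W (r i) = W (r (e + w)) := hA.eq_of_shell (f := fun i => W (r i)) hn hc hmi hmw
        (by rw [mul_add, hlw, add_zero, hi'])
      simp only [f, this]
    rw [Finset.sum_sub_distrib, Finset.sum_const, card_fibre (dvd_of_shell hn hc), nsmul_eq_mul,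
      ZMod.natCast_self, zero_mul, sub_zero] at h1
    exact h1
  rw [← ZMod.intCast_zmod_eq_zero_iff_dvd, Int.cast_sub]
  exact hsum.symm.trans hzero

theorem core_dvd (hT : Trans G (DihedralGroup n)) (hn : n = m * l ^ c)
    (hc : c ≠ 0) (hm : ¬ l ∣ m) {w : ZMod n} (hw : w ≠ 0) (hlw : (l : ZMod n) * w = 0) :
    ∀ (d : ℕ) (W : DihedralGroup n → ℤ), Inv G W → Rat' (fun i => W (r i)) → Per l (fun i => W (sr i)) →
      ∀ e : ZMod n, e ≠ 0 → (m : ZMod n) * e = 0 → ((l : ℤ) ^ d) ∣ W (r e) - W (r (e + w)) := by
  intro d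
  induction d with
  | zero => intros; rw [pow_zero]; exact one_dvd _
  | succ d ih =>
    intro W hW hA hB e he0 hme
    classical
    let W1 : DihedralGroup n → ℤ := fun x => if x = 1 then W (r w) else W x
    have hW1 : Inv G W1 := fun g hg x => by
      have h1 : g • x = 1 ↔ x = 1 :=
        ⟨fun h => MulAction.injective g (h.trans hg.symm), fun h => h ▸ hg⟩
      simp only [W1, h1, hW g hg x]
    have hr1 : ∀ i : ZMod n, (r i = (1 : DihedralGroup n)) ↔ i = 0 := fun i => by
      rw [DihedralGroup.one_def, DihedralGroup.r.injEq]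
    have hA1 : Rat' fun i => W1 (r i) := fun u i => by
      have h1 : W (r (u * i)) = W (r i) := hA u i
      simp only [W1, hr1, Units.mul_right_eq_zero, h1]
    have hsr : ∀ i, W1 (sr i) = W (sr i) := fun i => if_neg (sr_ne_one i)
    have hne : ∀ i, i ≠ 0 → W1 (r i) = W (r i) := fun i hi => if_neg (fun h => hi ((hr1 i).1 h))
    have h01 : W1 1 = W (r w) := if_pos rfl
    have hew : ∀ e : ZMod n, (m : ZMod n) * e = 0 → e + w ≠ 0 := by
      intro e hme h
      refine natCast_mul_ne_zero hm hlw hw ?_
      calc (m : ZMod n) * w = m * (e + w) := by rw [mul_add, hme, zero_add]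
        _ = 0 := by rw [h, mul_zero]
    have hconst := fun x => core_const (f := fun x => (W1 x : ZMod l)) hT hw hlw (hW1.map _)
      (per_of_exc hn hc hm hw hlw (f := fun i => (W1 (r i) : ZMod l))
        (fun u i => congrArg _ (hA1 u i))
        (by simp only [hne w hw, W1, hr1, if_true])
        (fun e he hme => by
          simp only [hne e he, hne _ (hew e hme)]
          rw [← sub_eq_zero, ← Int.cast_sub, ZMod.intCast_zmod_eq_zero_iff_dvd]
          exact core_dvd_step hT hn hc hm hw hlw hW hA hB he hme))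
      (fun i j hij => by
        have h1 : W (sr i) = W (sr j) := hB i j hij
        simp only [hsr, h1]) x
    have hdiv : ∀ x, (l : ℤ) ∣ W1 x - W (r w) := by
      intro x
      rw [← ZMod.intCast_zmod_eq_zero_iff_dvd, Int.cast_sub, sub_eq_zero, ← h01]
      exact hconst x
    choose W' hW' using hdiv
    have hl : (l : ℤ) ≠ 0 := by exact_mod_cast (Fact.out : l.Prime).ne_zero
    have hWW' : ∀ x y, W1 x = W1 y → W' x = W' y := fun x y h =>
      mul_left_cancel₀ hl (by rw [← hW', ← hW', h])
    have hih := ih W' (fun g hg x => hWW' _ _ (hW1 g hg x)) (fun u i => hWW' _ _ (hA1 u i))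
      (fun i j hij => hWW' _ _ (by rw [hsr, hsr]; exact hB i j hij)) e he0 hme
    have e1 := hW' (r e)
    have e2 := hW' (r (e + w))
    rw [hne e he0] at e1
    rw [hne _ (hew e hme)] at e2
    have : W (r e) - W (r (e + w)) = (l : ℤ) * (W' (r e) - W' (r (e + w))) := by linear_combination e1 - e2
    rw [this, pow_succ']
    exact mul_dvd_mul_left _ hih

/-- the core lemma -/
theorem core (hT : Trans G (DihedralGroup n)) (hn : n = m * l ^ c)
    (hc : c ≠ 0) (hm : ¬ l ∣ m) {W : DihedralGroup n → ℤ} (hW : Inv G W)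
    (hA : Rat' fun i => W (r i)) (hB : Per l fun i => W (sr i)) :
    ∀ x y : DihedralGroup n, x ≠ 1 → y ≠ 1 → W x = W y := by
  classical
  obtain ⟨w, hw, hlw⟩ := exists_period hn hc
  have hexc : ∀ e : ZMod n, e ≠ 0 → (m : ZMod n) * e = 0 → W (r e) = W (r (e + w)) := by
    intro e he hme
    rw [← sub_eq_zero]
    refine Int.eq_zero_of_dvd_of_natAbs_lt_natAbs
      (core_dvd hT hn hc hm hw hlw (W (r e) - W (r (e + w))).natAbs W hW hA hB e he hme) ?_
    rw [Int.natAbs_pow, Int.natAbs_natCast]
    exact Nat.lt_pow_self (Fact.out : l.Prime).one_lt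
  let W1 : DihedralGroup n → ℤ := fun x => if x = 1 then W (r w) else W x
  have hW1 : Inv G W1 := fun g hg x => by
    have h1 : g • x = 1 ↔ x = 1 := ⟨fun h => MulAction.injective g (h.trans hg.symm), fun h => h ▸ hg⟩
    simp only [W1, h1, hW g hg x]
  have hr1 : ∀ i : ZMod n, (r i = (1 : DihedralGroup n)) ↔ i = 0 := fun i => by
    rw [DihedralGroup.one_def, DihedralGroup.r.injEq]
  have hA1 : Rat' fun i => W1 (r i) := fun u i => by
    have h1 : W (r (u * i)) = W (r i) := hA u i
    simp only [W1, hr1, Units.mul_right_eq_zero, h1]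
  have hconst := fun x => core_const hT hw hlw hW1
    (per_of_exc hn hc hm hw hlw hA1 (by simp [W1]) (fun e he hme => by
      have h2 : e + w ≠ 0 := by
        intro h
        refine natCast_mul_ne_zero hm hlw hw ?_
        calc (m : ZMod n) * w = m * (e + w) := by rw [mul_add, hme, zero_add]
          _ = 0 := by rw [h, mul_zero]
      simp only [W1, hr1, if_neg he, if_neg h2, hexc e he hme]))
    (fun i j hij => by
      have h1 : W (sr i) = W (sr j) := hB i j hij
      simp only [W1, if_neg (sr_ne_one i), if_neg (sr_ne_one j), h1]) x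
  intro x y hx hy
  have h1 := hconst x
  have h2 := hconst y
  simp only [W1, if_neg hx, if_neg hy] at h1 h2
  exact h1.trans h2.symm

end CfsgLib.DihB
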