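import Cfsg.Agent.Lib.DihB.Arith

/-!
The numerical part: no proper pair of zero-one functions on `ZMod n` with period of prime order solves the
equations of a two-valued square.
-/

set_option autoImplicit false
set_option linter.style.haveILetI false

namespace CfsgLib.DihB

variable {n : ℕ} [NeZero n] {l : ℕ} [Fact l.Prime]

theorem eight_absurd (b : ZMod 8 → ℤ) (hb : ∀ i, b i = 0 ∨ b i = 1) (hsum : ∑ i, b i = 4)
    (h4 : ∑ i, b i * b (i + 4) = 0) (h1 : ∑ i, b i * b (i + 1) = 2) : False := by
  have e : ∀ φ : ZMod 8 → ℤ, ∑ i, φ i = φ 0 + φ 1 + φ 2 + φ 3 + φ 4 + φ 5 + φ 6 + φ 7 :=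
    fun φ => Fin.sum_univ_eight φ
  rw [e] at hsum h4 h1
  simp only [show (0 : ZMod 8) + 4 = 4 by decide, show (1 : ZMod 8) + 4 = 5 by decide,
    show (2 : ZMod 8) + 4 = 6 by decide, show (3 : ZMod 8) + 4 = 7 by decide,
    show (4 : ZMod 8) + 4 = 0 by decide, show (5 : ZMod 8) + 4 = 1 by decide,
    show (6 : ZMod 8) + 4 = 2 by decide, show (7 : ZMod 8) + 4 = 3 by decide] at h4
  simp only [show (0 : ZMod 8) + 1 = 1 by decide, show (1 : ZMod 8) + 1 = 2 by decide,
    show (2 : ZMod 8) + 1 = 3 by decide, show (3 : ZMod 8) + 1 = 4 by decide,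
    show (4 : ZMod 8) + 1 = 5 by decide, show (5 : ZMod 8) + 1 = 6 by decide,
    show (6 : ZMod 8) + 1 = 7 by decide, show (7 : ZMod 8) + 1 = 0 by decide] at h1
  rcases hb 4 with h | h <;> rcases hb 5 with h' | h' <;> rcases hb 6 with h'' | h'' <;>
    rcases hb 7 with h''' | h''' <;> simp only [h, h', h'', h'''] at hsum h4 h1 <;>
    rcases hb 0 with g | g <;> rcases hb 1 with g' | g' <;> simp only [g, g'] at hsum h4 h1 <;>
    rcases hb 2 with g'' | g'' <;> rcases hb 3 with g''' | g''' <;>
    simp only [g'', g'''] at hsum h4 h1 <;> omega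

set_option maxHeartbeats 1000000 in
theorem square_absurd (hl : l ∣ n) (a b : ZMod n → ℤ) (ha01 : ∀ i, a i = 0 ∨ a i = 1)
    (hb01 : ∀ i, b i = 0 ∨ b i = 1) (hsym : ∀ i, a (-i) = a i) (hper : Per l a) (lam mu : ℤ)
    (h1 : ∀ i, ∑ j, a j * a (i - j) + ∑ j, b j * b (j + i) = (if i = 0 then mu else 0) + lam)
    (h2 : ∀ i, 2 * ∑ j, a j * b (i - j) = lam)
    (hin : ∃ i, a i = 1) (hout : ∃ i, a i = 0) (hb : ∃ i, b i = 1)
    (hcase : l ≠ 2 ∨ ∃ H : AddSubgroup (ZMod n), H ≠ ⊤ ∧ ∀ i, a i = 1 → i ∈ H) : False := by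
  set x := ∑ i, a i with hx
  set y := ∑ i, b i with hy
  let A2 : ZMod n → ℤ := fun i => ∑ j, a j * a (i - j)
  let A3 : ZMod n → ℤ := fun i => ∑ k, a k * A2 (i - k)
  have hconv : ∀ (φ ψ : ZMod n → ℤ), ∑ i, ∑ j, φ j * ψ (i - j) = (∑ j, φ j) * ∑ i, ψ i := by
    intro φ ψ
    rw [Finset.sum_comm, Finset.sum_mul]
    refine Finset.sum_congr rfl fun j _ => ?_
    rw [← Finset.mul_sum]
    congr 1
    exact Equiv.sum_comp (Equiv.subRight j) ψ
  have ha2 : ∀ i, a i * a i = a i := fun i => by rcases ha01 i with h | h <;> rw [h] <;> rfl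
  have hb2 : ∀ i, b i * b i = b i := fun i => by rcases hb01 i with h | h <;> rw [h] <;> rfl
  have hA20 : A2 0 = x := by
    simp only [A2, zero_sub, hsym, ha2, hx]
  have hS0 : x + y = mu + lam := by
    have h := h1 0
    simp only [add_zero, hb2, ↓reduceIte] at h
    change A2 0 + y = mu + lam at h
    rwa [hA20] at h
  have hxy : 2 * (x * y) = n * lam := by
    have h : ∑ i : ZMod n, 2 * ∑ j, a j * b (i - j) = ∑ _i : ZMod n, lam :=
      Finset.sum_congr rfl fun i _ => h2 i
    rw [← Finset.mul_sum, hconv, Finset.sum_const, Finset.card_univ, ZMod.card, nsmul_eq_mul] at h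
    exact h
  have hsq : x * x + y * y = mu + n * lam := by
    have h : ∑ i : ZMod n, (A2 i + ∑ j, b j * b (j + i)) =
        ∑ i : ZMod n, ((if i = 0 then mu else 0) + lam) :=
      Finset.sum_congr rfl fun i _ => h1 i
    have hbb : ∑ i, ∑ j, b j * b (j + i) = y * y := by
      rw [Finset.sum_comm, hy, Finset.sum_mul]
      refine Finset.sum_congr rfl fun j _ => ?_
      rw [← Finset.mul_sum]
      congr 1
      exact Equiv.sum_comp (Equiv.addLeft j) b
    rw [Finset.sum_add_distrib, hbb, hconv, Finset.sum_add_distrib, Finset.sum_ite_eq' Finset.univ,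
      if_pos (Finset.mem_univ _), Finset.sum_const, Finset.card_univ, ZMod.card, nsmul_eq_mul] at h
    exact h
  have hmu : mu = (x - y) ^ 2 := by linear_combination hxy - hsq
  have hx0 : 0 < x := by
    obtain ⟨i, hi⟩ := hin
    have h : a i ≤ x := Finset.single_le_sum
      (fun j _ => by rcases ha01 j with h | h <;> simp [h]) (Finset.mem_univ i)
    omega
  have hxn : x < n := by
    obtain ⟨i, hi⟩ := hout
    have h : (1 - a i) ≤ ∑ j, (1 - a j) := Finset.single_le_sum (f := fun j => 1 - a j)
      (fun j _ => by rcases ha01 j with h | h <;> simp [h]) (Finset.mem_univ i)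
    rw [Finset.sum_sub_distrib, Finset.sum_const, Finset.card_univ, ZMod.card, nsmul_eq_mul,
      mul_one] at h
    omega
  have hy0 : 0 < y := by
    obtain ⟨i, hi⟩ := hb
    have h : b i ≤ y := Finset.single_le_sum
      (fun j _ => by rcases hb01 j with h | h <;> simp [h]) (Finset.mem_univ i)
    omega
  have hmu0 : x ≠ y := by
    intro h
    have h0 : mu = 0 := by rw [hmu, h]; ring
    have : lam = 2 * x := by omega
    rw [← h, this] at hxy
    have : (x - n) * x = 0 := by linarith
    rcases mul_eq_zero.1 this with h' | h' <;> omega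
  -- the cubic equation
  have hcube : ∀ i, 2 * A3 i = 2 * mu * a i + (2 * lam * x - lam * y) := by
    intro i
    have h3 : ∀ k, A2 (i - k) = (if i = k then mu else 0) + lam - ∑ j, b j * b (j + (i - k)) := by
      intro k
      have h := h1 (i - k)
      simp only [sub_eq_zero] at h
      change A2 (i - k) + _ = _ at h
      linarith
    have h4 : 2 * ∑ k, a k * ∑ j, b j * b (j + (i - k)) = lam * y := by
      simp only [Finset.mul_sum]
      rw [Finset.sum_comm, hy, Finset.mul_sum]
      refine Finset.sum_congr rfl fun j _ => ?_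
      rw [← h2 (j + i), Finset.mul_sum, Finset.sum_mul]
      refine Finset.sum_congr rfl fun k _ => ?_
      rw [show j + (i - k) = j + i - k by abel]
      ring
    simp only [A3, h3, mul_sub, mul_add, Finset.sum_sub_distrib, Finset.sum_add_distrib, mul_ite,
      mul_zero, Finset.sum_ite_eq, Finset.mem_univ, ↓reduceIte, ← Finset.sum_mul, h4]
    rw [hx]; ring
  have hA2per : Per l A2 := fun i i' h => Finset.sum_congr rfl fun j _ => by
    rw [hper (i - j) (i' - j) (by rw [mul_sub, mul_sub, h])]
  have hA2dvd : ∀ i, (l : ℤ) ∣ A2 i := fun i => natCast_dvd_sum_per hl fun j j' h => by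
    rw [hper j j' h, hper (i - j) (i - j') (by rw [mul_sub, mul_sub, h])]
  have hlx : (l : ℤ) ∣ x := natCast_dvd_sum_per hl hper
  rcases ne_or_eq l 2 with hl2 | hl2
  · -- odd prime
    have hlp : Prime (l : ℤ) := Nat.prime_iff_prime_int.1 Fact.out
    have hl3 : (3 : ℤ) ≤ l := by
      have := (Fact.out : l.Prime).two_le
      omega
    have hA3dvd : ∀ i, (l : ℤ) * l ∣ A3 i := fun i => dvd_sum_per hl (f := fun k => a k * A2 (i - k))
      (fun k k' h => by
        simp only [hper k k' h, hA2per (i - k) (i - k') (by rw [mul_sub, mul_sub, h])])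
      (fun k => (hA2dvd _).mul_left _)
    have hdvd : (l : ℤ) * l ∣ 2 * mu := by
      obtain ⟨i, hi⟩ := hin
      obtain ⟨o, ho⟩ := hout
      have e1 := hcube i
      have e2 := hcube o
      rw [hi] at e1
      rw [ho] at e2
      have : 2 * mu = 2 * A3 i - 2 * A3 o := by linarith
      rw [this]
      exact dvd_sub ((hA3dvd i).mul_left _) ((hA3dvd o).mul_left _)
    have hls : (l : ℤ) ∣ x - y := by
      have h := (dvd_mul_right (l : ℤ) l).trans hdvd
      rcases hlp.dvd_or_dvd h with h' | h'
      · have := Int.le_of_dvd (by norm_num) h'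
        omega
      · rw [hmu] at h'
        exact hlp.dvd_of_dvd_pow h'
    set Q := |x - y| with hQ
    have hQl : (l : ℤ) ≤ Q := Int.le_of_dvd (abs_pos.2 (sub_ne_zero.2 hmu0)) ((dvd_abs _ _).2 hls)
    have hQsq : mu = Q ^ 2 := by rw [hmu, hQ, sq_abs]
    -- sum of squares
    have hA2sum : ∑ i, A2 i = x * x := hconv a a
    have hA22 : ∑ i, A2 i * A2 i = ∑ k, a k * A3 k := by
      calc ∑ i, A2 i * A2 i = ∑ i, ∑ k, A2 i * (a k * a (i - k)) :=
            Finset.sum_congr rfl fun i _ => Finset.mul_sum _ _ _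
        _ = ∑ k, ∑ i, A2 i * (a k * a (i - k)) := Finset.sum_comm
        _ = ∑ k, a k * A3 k := by
          refine Finset.sum_congr rfl fun k _ => ?_
          simp only [A3, Finset.mul_sum]
          refine (Fintype.sum_equiv (Equiv.subLeft k) _ _ fun t => ?_).symm
          simp only [Equiv.subLeft_apply]
          rw [show k - t - k = -t by abel, hsym]
          ring
    have hA3sum : 2 * (x * (x * x)) = 2 * mu * x + n * (2 * lam * x - lam * y) := by
      have h : ∑ i : ZMod n, 2 * A3 i = ∑ i : ZMod n, (2 * mu * a i + (2 * lam * x - lam * y)) :=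
        Finset.sum_congr rfl fun i _ => hcube i
      rw [← Finset.mul_sum, hconv, hA2sum, Finset.sum_add_distrib, ← Finset.mul_sum, Finset.sum_const,
        Finset.card_univ, ZMod.card, nsmul_eq_mul] at h
      exact h
    have hq : 2 * ∑ k, a k * A3 k = (2 * mu + (2 * lam * x - lam * y)) * x := by
      rw [Finset.mul_sum]
      have : ∀ k, 2 * (a k * A3 k) = (2 * mu + (2 * lam * x - lam * y)) * a k := fun k => by
        rcases ha01 k with h | h
        · rw [h]; ring
        · have := hcube k
          rw [h] at this ⊢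
          linarith
      rw [Finset.sum_congr rfl (fun k _ => this k), ← Finset.mul_sum]
    let F : ZMod n → ℤ := fun i => n * A2 i - x * x
    have hFF : 2 * ∑ i, F i * F i = 2 * n * mu * (n * x - x * x) := by
      have : ∀ i, F i * F i = (n : ℤ) * n * (A2 i * A2 i) - 2 * n * (x * x) * A2 i + x * x * (x * x) :=
        fun i => by simp only [F]; ring
      rw [Finset.sum_congr rfl (fun i _ => this i), Finset.sum_add_distrib, Finset.sum_sub_distrib,
        ← Finset.mul_sum, ← Finset.mul_sum, hA22, hA2sum, Finset.sum_const, Finset.card_univ,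
        ZMod.card, nsmul_eq_mul]
      linear_combination ((n : ℤ) * n) * hq - (n : ℤ) * x * hA3sum
    have hlow : (l : ℤ) * ((n * x - x * x) * (n * x - x * x)) ≤ ∑ i, F i * F i := by
      have hF0 : F 0 = n * x - x * x := by simp only [F, hA20]
      have hle : ∑ i ∈ Finset.univ.filter (fun i : ZMod n => (l : ZMod n) * i = l * 0), F i * F i ≤
          ∑ i, F i * F i :=
        Finset.sum_le_sum_of_subset_of_nonneg (Finset.subset_univ _)
          fun i _ _ => mul_self_nonneg _
      rw [sum_fibre (f := fun i => F i * F i) hl (fun i j h => by simp only [F, hA2per i j h]) 0,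
        hF0] at hle
      exact hle
    have hD : 0 < n * x - x * x := by nlinarith
    have hkey : (l : ℤ) * (n * x - x * x) ≤ n * mu := by
      refine le_of_mul_le_mul_right (a := n * x - x * x) ?_ hD
      linarith
    have hid : 2 * (n * x - x * x) = n * ((x - y) ^ 2 + (x - y)) - 2 * x * (x - y) := by
      linear_combination (-1 : ℤ) * hxy + (n : ℤ) * hS0 + (n : ℤ) * hmu
    have hbig : n * (Q * Q - Q) < 2 * (n * x - x * x) := by
      rw [hid, ← sq_abs, ← hQ]
      rcases abs_choice (x - y) with h | h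
      · rw [← hQ] at h
        rw [← h]
        nlinarith
      · rw [← hQ] at h
        rw [show x - y = -Q by omega]
        nlinarith
    have h5 : (l : ℤ) * (n * (Q * Q - Q)) < 2 * (n * mu) :=
      lt_of_lt_of_le (mul_lt_mul_of_pos_left hbig (by omega)) (by linarith)
    rw [hQsq] at h5
    have h6 : (l : ℤ) * (Q - 1) < 2 * Q := by
      refine lt_of_mul_lt_mul_left (a := (n : ℤ) * Q) ?_ (by positivity)
      linarith
    have h7 := mul_le_mul_of_nonneg_left hQl (show (0 : ℤ) ≤ l - 2 by omega)
    have h8 := mul_le_mul_of_nonneg_left hl3 (show (0 : ℤ) ≤ l by omega)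
    linarith
  · -- the prime two
    obtain ⟨H, hH, haH⟩ := hcase.resolve_left (not_not.2 hl2)
    have hone : (1 : ZMod n) ∉ H := fun h => hH (by
      rw [eq_top_iff]
      intro i _
      have := AddSubgroup.nsmul_mem H h i.val
      rwa [nsmul_one, ZMod.natCast_zmod_val] at this)
    have ha0 : ∀ i, i ∉ H → a i = 0 := fun i hi => (ha01 i).resolve_right fun h => hi (haH i h)
    have hA2out : ∀ i, i ∉ H → A2 i = 0 := fun i hi => Finset.sum_eq_zero fun j _ => by
      rcases ha01 j with h | h
      · rw [h, zero_mul]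
      · rw [ha0 (i - j) fun h' => hi (by simpa using H.add_mem h' (haH j h)), mul_zero]
    have hA31 : A3 1 = 0 := Finset.sum_eq_zero fun k _ => by
      rcases ha01 k with h | h
      · rw [h, zero_mul]
      · rw [hA2out (1 - k) fun h' => hone (by simpa using H.add_mem h' (haH k h)), mul_zero]
    have h := hcube 1
    rw [hA31, ha0 1 hone] at h
    have hlam : 0 < lam := by
      have : 0 < x * y := mul_pos hx0 hy0
      by_contra hc
      have : (n : ℤ) * lam ≤ 0 := mul_nonpos_of_nonneg_of_nonpos (by positivity) (by omega)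
      omega
    have hyx : y = 2 * x := by
      have h0 : lam * (2 * x - y) = 0 := by linarith
      rcases mul_eq_zero.1 h0 with h' | h' <;> omega
    clear_value y
    subst hyx
    have hx3 : x < 3 := by nlinarith
    obtain ⟨t, ht⟩ := hlx
    rw [hl2] at ht
    push_cast at ht
    have hx2 : x = 2 := by omega
    rw [hx2] at hmu hS0 hxy
    norm_num at hmu
    have hlam2 : lam = 2 := by omega
    have hn8 : n = 8 := by
      have : (n : ℤ) = 8 := by rw [hlam2] at hxy; omega
      exact_mod_cast this
    subst hn8 hl2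
    refine eight_absurd b hb01 (by rw [← hy, hx2]; norm_num) ?_ ?_
    · have h' := h1 4
      rw [if_neg (by decide)] at h'
      have h4 : A2 4 = x := by
        rw [hx]
        refine Finset.sum_congr rfl fun j _ => ?_
        rw [hper (4 - j) (-j) (by
          rw [show (4 : ZMod 8) - j = -j + 4 by ring, mul_add,
            show ((2 : ℕ) : ZMod 8) * 4 = 0 by decide, add_zero]), hsym, ha2]
      change A2 4 + _ = _ at h'
      omega
    · have h' := h1 1
      rw [if_neg (by decide)] at h'
      change A2 1 + _ = _ at h'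
      rw [hA2out 1 hone] at h'
      omega

end CfsgLib.DihB
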