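import Cfsg.Agent.Lib.DihB.Mult
import Cfsg.Agent.Lib.DihB.Core
import Cfsg.Agent.Lib.DihB.Count

/-!
A group acting primitively on a dihedral group and containing the translations has a stabiliser transitive on
the elements other than the identity.
-/

set_option autoImplicit false
set_option linter.style.haveILetI false

namespace CfsgLib.DihB

open DihedralGroup

variable {G : Type*} [Group G] {n : ℕ} [NeZero n] [MulAction G (DihedralGroup n)]

/-- a nonempty invariant set avoiding the identity whose rotation part is preserved by unit multipliers -/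
structure RatSet (G : Type*) [Group G] [MulAction G (DihedralGroup n)] (T : Finset (DihedralGroup n)) :
    Prop where
  inv : Inv G fun x => x ∈ T
  one_notMem : (1 : DihedralGroup n) ∉ T
  nonempty : T.Nonempty
  rat : Rat' fun i => r i ∈ T

/-- the subgroup generated by the rotation part -/
def rotGen (T : Finset (DihedralGroup n)) : AddSubgroup (ZMod n) :=
  AddSubgroup.closure {i | r i ∈ T}

theorem r_ne_one {i : ZMod n} (hi : i ≠ 0) : (r i : DihedralGroup n) ≠ 1 := by
  rw [DihedralGroup.one_def]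
  exact fun h => hi (DihedralGroup.r.inj h)

variable [MulAction.IsPreprimitive G (DihedralGroup n)]

theorem RatSet.exists_rot (hT : Trans G (DihedralGroup n)) (hn : 1 < n) {T : Finset (DihedralGroup n)}
    (hTs : RatSet G T) : ∃ i, i ≠ 0 ∧ r i ∈ T := by
  by_contra h
  push Not at h
  obtain ⟨x, hx⟩ := hTs.nonempty
  have := eq_one_of_no_rot hT hn (S := {y | y ∈ T}) hTs.inv h x hx
  exact hTs.one_notMem (this ▸ hx)

theorem full_of_rot (hT : Trans G (DihedralGroup n)) (hn : 1 < n) {T : Finset (DihedralGroup n)}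
    (hTi : Inv G fun x => x ∈ T) (h : ∀ i : ZMod n, i ≠ 0 → r i ∈ T) {x : DihedralGroup n}
    (hx : x ≠ 1) : x ∈ T :=
  (ext_rot hT hn hTi (inv_const True) (fun i hi => eq_true (h i hi)) hx).symm ▸ trivial

theorem rot_one_mem {T : Finset (DihedralGroup n)} {a : ℕ} (hn2 : n = 2 ^ a) (hrat : Rat' fun i => r i ∈ T)
    (htop : rotGen T = ⊤) (hn : 1 < n) : r 1 ∈ T := by
  by_contra hc
  have ha : a ≠ 0 := by rintro rfl; simp at hn2; omega
  have h2n : 2 ∣ n := hn2 ▸ dvd_pow_self 2 ha
  have hle : rotGen T ≤ (AddMonoidHom.mulLeft ((2 : ℕ) : ZMod n)).range := by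
    refine (AddSubgroup.closure_le _).2 fun i hi => ?_
    by_contra hnot
    have hodd : ¬ 2 ∣ i.val := by
      rintro ⟨k, hk⟩
      refine hnot ⟨(k : ZMod n), ?_⟩
      rw [AddMonoidHom.coe_mulLeft, ← Nat.cast_mul, ← hk, ZMod.natCast_zmod_val]
    have hco : Nat.Coprime i.val n := by
      conv_rhs => rw [hn2]
      exact Nat.Coprime.pow_right _ ((Nat.prime_two.coprime_iff_not_dvd.2 hodd).symm)
    have h1 : (r ((ZMod.unitOfCoprime i.val hco : ZMod n) * 1) ∈ T) = (r 1 ∈ T) := hrat _ 1
    rw [ZMod.coe_unitOfCoprime, mul_one, ZMod.natCast_zmod_val] at h1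
    exact hc (h1 ▸ hi)
  rw [htop, top_le_iff, AddMonoidHom.range_eq_top, ← Finite.injective_iff_surjective] at hle
  have hcard := card_torsion h2n
  have hsub : (Finset.univ.filter fun i : ZMod n => ((2 : ℕ) : ZMod n) * i = 0) = {0} := by
    ext i
    simp only [Finset.mem_filter, Finset.mem_univ, true_and, Finset.mem_singleton]
    exact ⟨fun h => hle (by simpa using h), fun h => by rw [h, mul_zero]⟩
  rw [hsub, Finset.card_singleton] at hcard
  omega

theorem sq_cast (X : Finset (DihedralGroup n)) (a b : ZMod n → ℤ)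
    (ha : ∀ i, a i = if r i ∈ X then 1 else 0) (hb : ∀ i, b i = if sr i ∈ X then 1 else 0)
    (hsym : ∀ i, a (-i) = a i) :
    (∀ i, (sq X (r i) : ℤ) = ∑ j, a j * a (i - j) + ∑ j, b j * b (j + i)) ∧
      (∀ i, (sq X (sr i) : ℤ) = 2 * ∑ j, a j * b (i - j)) := by
  have h : ∀ x, (sq X x : ℤ) =
      ∑ y, (if y ∈ X then (1 : ℤ) else 0) * (if y⁻¹ * x ∈ X then (1 : ℤ) else 0) := by
    intro x
    simp only [sq, Finset.natCast_card_filter, ite_mul, one_mul, zero_mul]
    rw [Finset.sum_ite_mem, Finset.univ_inter]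
  refine ⟨fun i => ?_, fun i => ?_⟩
  · rw [h, sum_dihedral]
    simp only [inv_r, inv_sr, r_mul_r, sr_mul_r, neg_add_eq_sub]
    simp only [ha, hb]
    congr!
  · rw [h, sum_dihedral]
    simp only [inv_r, inv_sr, r_mul_sr, sr_mul_sr, two_mul]
    congr 1
    · refine Fintype.sum_equiv (Equiv.neg (ZMod n)) _ _ fun j => ?_
      simp only [Equiv.neg_apply, hsym]
      simp only [ha, hb, sub_neg_eq_add]
    · refine Fintype.sum_equiv (Equiv.subLeft i) _ _ fun j => ?_
      simp only [Equiv.subLeft_apply, sub_sub_cancel]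
      simp only [ha, hb]
      rw [mul_comm]
      congr!

theorem periodic_of_minimal (hT : Trans G (DihedralGroup n)) {T : Finset (DihedralGroup n)}
    (hTs : RatSet G T) (hmin : ∀ T', RatSet G T' → ¬ rotGen T' < rotGen T)
    {l m c : ℕ} [Fact l.Prime] (hnl : n = m * l ^ c) (hc : c ≠ 0) (hm : ¬ l ∣ m) {w : ZMod n}
    (hw : w ≠ 0) (hlw : (l : ZMod n) * w = 0) (hwH : w ∈ rotGen T)
    (hnat : l ≠ 2 ∨ ∀ i ∈ rotGen T, ((l ^ c : ℕ) : ZMod n) * i = 0) {i j : ZMod n}
    (hij : (l : ZMod n) * i = l * j) (hi0 : (l : ZMod n) * i ≠ 0) (hi : r i ∈ T) : r j ∈ T := by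
  classical
  rcases hnat with hl2 | h2
  · let f : DihedralGroup n → ZMod l := fun x => if x ∈ T then 1 else 0
    have hf : Inv G f := fun g hg x => if_congr (iff_of_eq (hTs.inv g hg x)) rfl rfl
    set g : DihedralGroup n → ZMod l := fun x => (ofK f ^ l).coeff x with hgdef
    have hg : Inv G g := inv_pow_coeff hT hf
    have hgr : ∀ e, g (r e) =
        ((Finset.univ.filter fun k : ZMod n => (l : ZMod n) * k = e ∧ r k ∈ T).card : ZMod l) := by
      intro e
      rw [hgdef]
      dsimp only
      rw [(pow_coeff f (hf.symm_rot hT)).1 (Or.inl hl2), ← Finset.filter_filter]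
      simp [f]
    let T' : Finset (DihedralGroup n) := Finset.univ.filter fun x => x ≠ 1 ∧ g x ≠ 0
    have hzero : g (r ((l : ZMod n) * i)) = 0 := by
      by_contra hne
      have hT' : RatSet G T' :=
        { inv := by
            simpa [T'] using (inv_delta (G := G) fun p => ¬ p).map₂ hg fun a b => a ∧ b ≠ 0
          one_notMem := by simp [T']
          nonempty := ⟨r ((l : ZMod n) * i), by simp [T', r_ne_one hi0, hne]⟩
          rat := fun u e => by
            have he : g (r ((u : ZMod n) * e)) = g (r e) := by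
              rw [hgr, hgr]
              congr 1
              refine (Finset.card_equiv u.mulLeft fun k => ?_).symm
              have hk : (r ((u : ZMod n) * k) ∈ T) = (r k ∈ T) := hTs.rat u k
              simp only [Finset.mem_filter, Finset.mem_univ, true_and, Units.mulLeft_apply, hk]
              rw [mul_left_comm, Units.mul_right_inj]
            simp only [T', Finset.mem_filter, Finset.mem_univ, true_and]
            simp only [he, ne_eq, DihedralGroup.one_def, DihedralGroup.r.injEq, Units.mul_right_eq_zero] }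
      have hle : rotGen T' ≤ (rotGen T).map (AddMonoidHom.mulLeft (l : ZMod n)) := by
        refine (AddSubgroup.closure_le _).2 fun e he => ?_
        have he' : g (r e) ≠ 0 := (Finset.mem_filter.1 he).2.2
        rw [hgr] at he'
        obtain ⟨k, hk⟩ := Finset.card_ne_zero.1 (fun h => he' (by rw [h]; simp))
        exact ⟨k, AddSubgroup.subset_closure (Finset.mem_filter.1 hk).2.2,
          (Finset.mem_filter.1 hk).2.1⟩
      refine hmin T' hT' (lt_of_le_of_lt hle (lt_of_le_of_ne ?_ fun heq => ?_))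
      · rintro _ ⟨k, hk, rfl⟩
        simpa [nsmul_eq_mul] using (rotGen T).nsmul_mem hk l
      · have hmem : ∀ k : rotGen T, (l : ZMod n) * k.1 ∈ rotGen T := fun k => by
          simpa [nsmul_eq_mul] using (rotGen T).nsmul_mem k.2 l
        have hsurj : Function.Surjective fun k : rotGen T => (⟨_, hmem k⟩ : rotGen T) := by
          rintro ⟨y, hy⟩
          obtain ⟨k, hk, hky⟩ : y ∈ (rotGen T).map (AddMonoidHom.mulLeft (l : ZMod n)) := heq.symm ▸ hy
          exact ⟨⟨k, hk⟩, Subtype.ext hky⟩
        exact hw (congrArg Subtype.val ((Finite.injective_iff_surjective.2 hsurj)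
          (a₁ := ⟨w, hwH⟩) (a₂ := 0) (Subtype.ext (by simp [hlw]))))
    rw [hgr, ZMod.natCast_eq_zero_iff] at hzero
    have hsub : (Finset.univ.filter fun k : ZMod n => (l : ZMod n) * k = l * i ∧ r k ∈ T) ⊆
        Finset.univ.filter fun k : ZMod n => (l : ZMod n) * k = l * i := by
      intro k hk
      simp only [Finset.mem_filter] at hk ⊢
      exact ⟨hk.1, hk.2.1⟩
    have heq := Finset.eq_of_subset_of_card_le hsub (by
      rw [card_fibre (dvd_of_shell hnl hc)]
      exact Nat.le_of_dvd (Finset.card_pos.2 ⟨i, by simp [hi]⟩) hzero)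
    have : j ∈ Finset.univ.filter fun k : ZMod n => (l : ZMod n) * k = l * i ∧ r k ∈ T := by
      rw [heq]; simp [hij]
    exact (Finset.mem_filter.1 this).2.2
  · have hP : ∀ d : ZMod n, (l : ZMod n) * d = 0 → d ∈ rotGen T := by
      intro d hd
      have hker : ∀ e : ZMod n, e ∈ (AddMonoidHom.mulLeft (l : ZMod n)).ker ↔ (l : ZMod n) * e = 0 :=
        fun e => AddMonoidHom.mem_ker
      have hcard : Nat.card (AddMonoidHom.mulLeft (l : ZMod n)).ker = l := by
        refine Eq.trans ?_ (card_torsion (dvd_of_shell hnl hc))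
        rw [← Fintype.card_subtype, ← Nat.card_eq_fintype_card]
        exact Nat.card_congr (Equiv.subtypeEquivRight hker)
      have hord : addOrderOf w = l :=
        addOrderOf_eq_prime (by rw [nsmul_eq_mul]; exact hlw) hw
      have : AddSubgroup.zmultiples w = (AddMonoidHom.mulLeft (l : ZMod n)).ker :=
        AddSubgroup.eq_of_le_of_card_ge (AddSubgroup.zmultiples_le.2 ((hker w).2 hlw))
          (by rw [hcard, Nat.card_zmultiples, hord])
      have hd' := this ▸ (hker d).2 hd
      exact (AddSubgroup.zmultiples_le.2 hwH) hd'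
    have hiH : i ∈ rotGen T := AddSubgroup.subset_closure hi
    have hjH : j ∈ rotGen T := by
      simpa using (rotGen T).add_mem (hP (j - i) (by rw [mul_sub, hij, sub_self])) hiH
    have key : ∀ k ∈ rotGen T, (l : ZMod n) * k ≠ 0 → (m : ZMod n) * k ≠ 0 := by
      intro k hk hlk hmk
      apply hlk
      have hk' : k = 0 := by
        have hco : Nat.Coprime m (l ^ c) :=
          Nat.Coprime.pow_right _ ((Fact.out : l.Prime).coprime_iff_not_dvd.2 hm).symm
        have h1 : addOrderOf k ∣ Nat.gcd m (l ^ c) := Nat.dvd_gcd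
          (addOrderOf_dvd_of_nsmul_eq_zero (by rw [nsmul_eq_mul]; exact hmk))
          (addOrderOf_dvd_of_nsmul_eq_zero (by rw [nsmul_eq_mul]; exact h2 k hk))
        rw [hco.gcd_eq_one, Nat.dvd_one, AddMonoid.addOrderOf_eq_one_iff] at h1
        exact h1
      rw [hk', mul_zero]
    have h := hTs.rat.eq_of_shell hnl hc (key i hiH hi0) (key j hjH (hij ▸ hi0)) hij
    exact h ▸ hi

theorem minimal_full (hT : Trans G (DihedralGroup n)) (hn : 1 < n) {T : Finset (DihedralGroup n)}
    (hTs : RatSet G T) (hmin : ∀ T', RatSet G T' → ¬ rotGen T' < rotGen T)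
    {x : DihedralGroup n} (hx : x ≠ 1) : x ∈ T := by
  classical
  obtain ⟨i0, hi00, hi0⟩ := hTs.exists_rot hT hn
  by_contra hnot
  let H := rotGen T
  have hi0H : i0 ∈ H := AddSubgroup.subset_closure hi0
  have hN : 1 < Nat.card H := by
    rw [Finite.one_lt_card_iff_nontrivial]
    exact ⟨⟨⟨i0, hi0H⟩, 0, fun h => hi00 (congrArg Subtype.val h)⟩⟩
  obtain ⟨l, hl, hlN, hodd⟩ : ∃ l : ℕ, l.Prime ∧ l ∣ Nat.card H ∧
      (l ≠ 2 ∨ ∀ p : ℕ, p.Prime → p ∣ Nat.card H → p = 2) := by
    by_cases h : ∃ p : ℕ, p.Prime ∧ p ∣ Nat.card H ∧ p ≠ 2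
    · obtain ⟨p, hp, hpN, hp2⟩ := h
      exact ⟨p, hp, hpN, Or.inl hp2⟩
    · push Not at h
      obtain ⟨p, hp, hpN⟩ := Nat.exists_prime_and_dvd (by omega : Nat.card H ≠ 1)
      exact ⟨p, hp, hpN, Or.inr h⟩
  haveI : Fact l.Prime := ⟨hl⟩
  have hNn : Nat.card H ∣ n := by
    have := AddSubgroup.card_addSubgroup_dvd_card H
    rwa [Nat.card_zmod] at this
  obtain ⟨c, m, hm, hnl'⟩ := Nat.exists_eq_pow_mul_and_not_dvd (NeZero.ne n) l hl.ne_one
  have hnl : n = m * l ^ c := by rw [hnl', mul_comm]
  have hc : c ≠ 0 := by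
    rintro rfl
    have h := hlN.trans hNn
    rw [hnl, pow_zero, mul_one] at h
    exact hm h
  obtain ⟨⟨w, hwH⟩, hord⟩ := exists_prime_addOrderOf_dvd_card' (G := H) l hlN
  have hord' : addOrderOf w = l := by rw [← hord]; exact (AddSubgroup.addOrderOf_coe ⟨w, hwH⟩)
  have hw : w ≠ 0 := fun h => hl.ne_one (by rw [← hord', h, addOrderOf_zero])
  have hlw : (l : ZMod n) * w = 0 := by rw [← nsmul_eq_mul, ← hord']; exact addOrderOf_nsmul_eq_zero w
  have htwo : (∀ p : ℕ, p.Prime → p ∣ Nat.card H → p = 2) →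
      ∃ a, Nat.card H = 2 ^ a := fun h =>
    ⟨_, Nat.eq_prime_pow_of_unique_prime_dvd (by omega) (fun {d} hd hdN => h d hd hdN)⟩
  have hnat : l ≠ 2 ∨ ∀ i ∈ H, ((l ^ c : ℕ) : ZMod n) * i = 0 := by
    refine hodd.imp_right fun h i hi => ?_
    obtain ⟨a, ha⟩ := htwo h
    have hl2 : l = 2 := h l hl hlN
    subst hl2
    have hdvd : Nat.card H ∣ 2 ^ c := by
      refine Nat.Coprime.dvd_of_dvd_mul_left ?_ (show Nat.card H ∣ m * 2 ^ c by rw [← hnl]; exact hNn)
      rw [ha]
      exact Nat.Coprime.pow_left _ (Nat.prime_two.coprime_iff_not_dvd.2 hm)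
    rw [← nsmul_eq_mul, ← addOrderOf_dvd_iff_nsmul_eq_zero]
    exact (AddSubgroup.addOrderOf_dvd_natCard (s := H) hi).trans hdvd
  have hout : ∀ i j : ZMod n, (l : ZMod n) * i = l * j → (l : ZMod n) * i ≠ 0 →
      (r i ∈ T ↔ r j ∈ T) := fun i j hij h0 =>
    ⟨periodic_of_minimal hT hTs hmin hnl hc hm hw hlw hwH hnat hij h0,
      periodic_of_minimal hT hTs hmin hnl hc hm hw hlw hwH hnat hij.symm (hij ▸ h0)⟩
  let X : Finset (DihedralGroup n) := Finset.univ.filter fun y => y ∈ T ∨ y = 1 ∧ r w ∈ T
  have hX : Inv G fun y => y ∈ X := by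
    simpa [X] using hTs.inv.map₂ (inv_delta fun p => p) fun a b => a ∨ b ∧ r w ∈ T
  have hXrot : ∀ i : ZMod n, r i ∈ X ↔ r i ∈ T ∨ i = 0 ∧ r w ∈ T := fun i => by
    simp only [X, Finset.mem_filter, Finset.mem_univ, true_and]
    simp only [DihedralGroup.one_def, DihedralGroup.r.injEq]
  have hXrat : Rat' fun i => r i ∈ X := fun u i => by
    have h : (r ((u : ZMod n) * i) ∈ T) = (r i ∈ T) := hTs.rat u i
    simp only [hXrot, h, Units.mul_right_eq_zero]
  let a : ZMod n → ℤ := fun i => if r i ∈ X then 1 else 0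
  let b : ZMod n → ℤ := fun i => if sr i ∈ X then 1 else 0
  have ha : ∀ i, a i = if r i ∈ X then 1 else 0 := fun _ => rfl
  have hb : ∀ i, b i = if sr i ∈ X then 1 else 0 := fun _ => rfl
  have hsym : ∀ i, a (-i) = a i := fun i => if_congr (iff_of_eq (hX.symm_rot hT i)) rfl rfl
  have hP : ∀ i : ZMod n, (l : ZMod n) * i = 0 → (r i ∈ X ↔ r w ∈ T) := by
    intro i hi
    rw [hXrot]
    rcases eq_or_ne i 0 with rfl | hne
    · have h1 : r (0 : ZMod n) ∉ T := by rw [← DihedralGroup.one_def]; exact hTs.one_notMem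
      simp [h1, -DihedralGroup.r_zero]
    · have h : (r i ∈ T) = (r w ∈ T) := hTs.rat.eq_of_shell hnl hc (natCast_mul_ne_zero hm hi hne)
        (natCast_mul_ne_zero hm hlw hw) (by rw [hi, hlw])
      simp [h, hne]
  have hper : Per l a := by
    intro i j hij
    refine if_congr ?_ rfl rfl
    by_cases h0 : (l : ZMod n) * i = 0
    · rw [hP i h0, hP j (hij ▸ h0)]
    · have hi' : i ≠ 0 := fun h => h0 (by rw [h, mul_zero])
      have hj' : j ≠ 0 := fun h => h0 (by rw [hij, h, mul_zero])
      rw [hXrot, hXrot, hout i j hij h0]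
      simp [hi', hj']
  have hsq := sq_cast X a b ha hb hsym
  let W : DihedralGroup n → ℤ := fun y => (sq X y : ℤ)
  have hW : Inv G W := (inv_sq hT hX).map _
  have hWrat : Rat' fun i => W (r i) := fun u i => congrArg Int.ofNat (sq_rat hT hn hX hXrat u i)
  have hWper : Per l fun i => W (sr i) := by
    have heq : ∀ i, W (sr i) = 2 * ∑ j, b j * a (i - j) := fun i => by
      refine (hsq.2 i).trans (congrArg (2 * ·) (Fintype.sum_equiv (Equiv.subLeft i) _ _ fun j => ?_))
      simp only [Equiv.subLeft_apply, sub_sub_cancel]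
      ring
    intro i j hij
    change W (sr i) = W (sr j)
    rw [heq, heq]
    congr 1
    exact Finset.sum_congr rfl fun k _ => by rw [hper (i - k) (j - k) (by rw [mul_sub, mul_sub, hij])]
  have hconst := core hT hnl hc hm hW hWrat hWper
  have hwne : (r w : DihedralGroup n) ≠ 1 := r_ne_one hw
  refine square_absurd (dvd_of_shell hnl hc) a b (fun i => ?_) (fun i => ?_) hsym hper (W (r w))
    (W 1 - W (r w)) (fun i => ?_) (fun i => ?_) ⟨i0, ?_⟩ ?_ ?_ ?_
  · rw [ha]; split_ifs <;> simp
  · rw [hb]; split_ifs <;> simp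
  · rw [← hsq.1]
    change W (r i) = _
    rcases eq_or_ne i 0 with rfl | hi
    · rw [if_pos rfl, sub_add_cancel, DihedralGroup.one_def]
    · rw [if_neg hi, zero_add]
      exact hconst _ _ (r_ne_one hi) hwne
  · rw [← hsq.2]
    exact hconst _ _ (sr_ne_one i) hwne
  · rw [ha, if_pos ((hXrot i0).2 (Or.inl hi0))]
  · by_contra hc'
    push Not at hc'
    refine hnot (full_of_rot hT hn hTs.inv (fun i hi => ?_) hx)
    have h : a i ≠ 0 := hc' i
    rw [ha] at h
    rcases (hXrot i).1 (by_contra fun h' => h (if_neg h')) with h' | ⟨h', -⟩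
    · exact h'
    · exact absurd h' hi
  · by_contra hc'
    push Not at hc'
    refine hTs.one_notMem ?_
    have := empty_of_subset_range hT (S := {y | y ∈ T}) hTs.inv (fun y hy => by
      rcases y with i | i
      · exact ⟨i, rfl⟩
      · refine absurd ?_ (hc' i)
        rw [hb, if_pos]
        exact Finset.mem_filter.2 ⟨Finset.mem_univ _, Or.inl hy⟩) _ hi0
    exact this ▸ hi0
  · rcases hodd with h | h
    · exact Or.inl h
    · refine Or.inr ⟨H, fun htop => ?_, fun i hi => ?_⟩
      · obtain ⟨a', ha'⟩ := htwo h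
        rw [htop, AddSubgroup.card_top, Nat.card_zmod] at ha'
        have h1 := rot_one_mem ha' hTs.rat htop hn
        let T' : Finset (DihedralGroup n) := Finset.univ.filter fun y => y ≠ 1 ∧ y ∉ T
        have hT' : RatSet G T' :=
          { inv := by simpa [T'] using (inv_delta (G := G) fun p => ¬ p).map₂ hTs.inv fun a b => a ∧ ¬ b
            one_notMem := by simp [T']
            nonempty := ⟨x, by simp [T', hx, hnot]⟩
            rat := fun u i => by
              have hk : (r ((u : ZMod n) * i) ∈ T) = (r i ∈ T) := hTs.rat u i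
              simp only [T', Finset.mem_filter, Finset.mem_univ, true_and]
              simp only [hk, ne_eq, DihedralGroup.one_def, DihedralGroup.r.injEq, Units.mul_right_eq_zero] }
        have htop' : rotGen T' = ⊤ := by
          by_contra hne
          exact hmin T' hT' (by rw [show rotGen T = ⊤ from htop]; exact lt_top_iff_ne_top.2 hne)
        exact (Finset.mem_filter.1 (rot_one_mem ha' hT'.rat htop' hn)).2.2 h1
      · rw [ha] at hi
        split_ifs at hi with h'
        · rcases (hXrot i).1 h' with h'' | ⟨h'', -⟩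
          · exact AddSubgroup.subset_closure h''
          · rw [h'']; exact H.zero_mem
        · exact absurd hi zero_ne_one

/-- the rational rank is two -/
theorem ratSet_full (hT : Trans G (DihedralGroup n)) (hn : 1 < n) {T : Finset (DihedralGroup n)}
    (hTs : RatSet G T) {x : DihedralGroup n} (hx : x ≠ 1) : x ∈ T := by
  have htop : ∀ (T : Finset (DihedralGroup n)), RatSet G T → rotGen T = ⊤ := by
    have key : ∀ (k : ℕ) (T : Finset (DihedralGroup n)), RatSet G T → Nat.card (rotGen T) ≤ k →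
        rotGen T = ⊤ := by
      intro k
      induction k with
      | zero =>
        intro T _ h
        have : 0 < Nat.card (rotGen T) := Nat.card_pos
        omega
      | succ k ih =>
        intro T hTs h
        by_cases hmin : ∃ T', RatSet G T' ∧ rotGen T' < rotGen T
        · obtain ⟨T', hT', hlt⟩ := hmin
          have hcard : Nat.card (rotGen T') < Nat.card (rotGen T) :=
            Set.ncard_lt_ncard (SetLike.coe_ssubset_coe.2 hlt) (Set.toFinite _)
          have := ih T' hT' (by omega)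
          exact top_le_iff.1 (this ▸ hlt.le)
        · push Not at hmin
          refine eq_top_iff.2 fun i _ => ?_
          rcases eq_or_ne i 0 with rfl | hi
          · exact zero_mem _
          · exact AddSubgroup.subset_closure
              (show r i ∈ T from minimal_full hT hn hTs (fun T' h' => hmin T' h') (r_ne_one hi))
    exact fun T hTs => key _ T hTs le_rfl
  refine minimal_full hT hn hTs (fun T' hT' hlt => ?_) hx
  rw [htop T' hT'] at hlt
  exact not_top_lt hlt

/-- transitivity of the stabiliser -/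
theorem transitive_stabilizer (hT : Trans G (DihedralGroup n)) (hn : 1 < n) {x y : DihedralGroup n}
    (hx : x ≠ 1) (hy : y ≠ 1) : ∃ g : G, g • (1 : DihedralGroup n) = 1 ∧ g • x = y := by
  classical
  set O : Finset (DihedralGroup n) :=
    Finset.univ.filter fun z => ∃ g : G, g • (1 : DihedralGroup n) = 1 ∧ g • x = z with hO
  have hOi : Inv G fun z => z ∈ O := by
    intro g hg z
    simp only [hO, Finset.mem_filter, Finset.mem_univ, true_and, eq_iff_iff]
    constructor
    · rintro ⟨k, hk, hkz⟩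
      exact ⟨g⁻¹ * k, by rw [mul_smul, hk, inv_smul_eq_iff, hg], by rw [mul_smul, hkz, inv_smul_smul]⟩
    · rintro ⟨k, hk, rfl⟩
      exact ⟨g * k, by rw [mul_smul, hk, hg], mul_smul _ _ _⟩
  have hOmin : ∀ S : Finset (DihedralGroup n), Inv G (fun z => z ∈ S) →
      ∀ z ∈ O, z ∈ S → O ⊆ S := by
    intro S hS z hz hzS z' hz'
    simp only [hO, Finset.mem_filter, Finset.mem_univ, true_and] at hz hz'
    obtain ⟨g, hg, rfl⟩ := hz
    obtain ⟨k, hk, rfl⟩ := hz'
    have h1 : (g • x ∈ S) = (x ∈ S) := hS g hg x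
    have h2 : (k • x ∈ S) = (x ∈ S) := hS k hk x
    rw [h2, ← h1]; exact hzS
  have hxO : x ∈ O := by
    simp only [hO, Finset.mem_filter, Finset.mem_univ, true_and]
    exact ⟨1, one_smul _ _, one_smul _ _⟩
  have hO1 : (1 : DihedralGroup n) ∉ O := by
    simp only [hO, Finset.mem_filter, Finset.mem_univ, true_and]
    rintro ⟨g, hg, hgx⟩
    exact hx (MulAction.injective g (hgx.trans hg.symm))
  choose S hSi hSrot hScard using fun u => exists_multiplier hT hn hOi u
  have hS1 : ∀ u, (1 : DihedralGroup n) ∉ S u := fun u h => hO1 (by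
    have h0 := hSrot u 0
    rw [mul_zero, ← DihedralGroup.one_def] at h0
    exact h0.1 h)
  have hSrot' : ∀ u i, (r i ∈ S u) ↔ r ((↑u⁻¹ : ZMod n) * i) ∈ O := fun u i => by
    rw [← hSrot u (↑u⁻¹ * i), Units.mul_inv_cancel_left]
  have hext : ∀ u (S' : Finset (DihedralGroup n)), Inv G (fun z => z ∈ S') →
      (1 : DihedralGroup n) ∉ S' → (∀ i, i ≠ 0 → (r i ∈ S u ↔ r i ∈ S')) → S u = S' := by
    intro u S' hS' h1 h
    ext z
    rcases eq_or_ne z 1 with rfl | hz
    · simp [hS1, h1]
    · exact iff_of_eq (ext_rot hT hn (hSi u) hS' (fun i hi => propext (h i hi)) hz)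
  have hone : S 1 = O := hext 1 O hOi hO1 fun i _ => by rw [hSrot']; simp
  have hmeet : ∀ u v z, z ∈ S u → z ∈ S v → S u = S v := by
    intro u v z hzu hzv
    have hz : z ≠ 1 := fun h => hS1 u (h ▸ hzu)
    obtain ⟨i, hiu, hiv⟩ : ∃ i : ZMod n, r i ∈ S u ∧ r i ∈ S v := by
      by_contra hc
      push Not at hc
      exact hz (eq_one_of_no_rot hT hn (S := {z | z ∈ S u ∧ z ∈ S v})
        ((hSi u).map₂ (hSi v) fun a b => a ∧ b) (fun i _ h => hc i h.1 h.2) z ⟨hzu, hzv⟩)
    have hin : r ((↑v⁻¹ : ZMod n) * i) ∈ S (v⁻¹ * u) := by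
      rw [hSrot']
      rw [hSrot'] at hiu
      rwa [mul_inv_rev, inv_inv, Units.val_mul, mul_assoc, Units.mul_inv_cancel_left]
    have heq : O = S (v⁻¹ * u) := Finset.eq_of_subset_of_card_le
      (hOmin _ (hSi _) _ ((hSrot' v i).1 hiv) hin) (hScard _).le
    refine hext u (S v) (hSi v) (hS1 v) fun k _ => ?_
    rw [hSrot' v, hSrot' u]
    conv_rhs => rw [heq, hSrot', mul_inv_rev, inv_inv, Units.val_mul, mul_assoc,
      Units.mul_inv_cancel_left]
  set img := Finset.univ.image S with himg
  have hdisj : ∀ A ∈ img, ∀ B ∈ img, ∀ z ∈ A, z ∈ B → A = B := by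
    intro A hA B hB z hzA hzB
    obtain ⟨u, -, rfl⟩ := Finset.mem_image.1 hA
    obtain ⟨v, -, rfl⟩ := Finset.mem_image.1 hB
    exact hmeet u v z hzA hzB
  set U := img.biUnion id with hU
  have hmemU : ∀ z, z ∈ U ↔ ∃ u, z ∈ S u := fun z => by simp [hU, himg]
  have hUr : RatSet G U :=
    { inv := fun g hg z => by
        simp only [hmemU]
        exact propext (exists_congr fun u => iff_of_eq (hSi u g hg z))
      one_notMem := by simp [hmemU, hS1]
      nonempty := ⟨x, (hmemU x).2 ⟨1, hone.symm ▸ hxO⟩⟩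
      rat := fun v i => by
        simp only [hmemU, eq_iff_iff]
        constructor
        · rintro ⟨u, hu⟩
          refine ⟨v⁻¹ * u, ?_⟩
          rw [hSrot'] at hu ⊢
          rwa [mul_inv_rev, inv_inv, Units.val_mul, mul_assoc]
        · rintro ⟨u, hu⟩
          refine ⟨v * u, ?_⟩
          rw [hSrot'] at hu ⊢
          rwa [mul_inv_rev, Units.val_mul, mul_assoc, Units.inv_mul_cancel_left] }
  have hfull : ∀ z, z ≠ 1 → z ∈ U := fun z hz => ratSet_full hT hn hUr hz
  set q := (Finset.univ.filter fun i : ZMod n => r i ∈ O).card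
  have hU1 : 2 * n - 1 = img.card * O.card := by
    have h : U = Finset.univ.erase 1 := by
      ext z
      simp only [Finset.mem_erase, Finset.mem_univ, and_true]
      exact ⟨fun h h1 => hUr.one_notMem (h1 ▸ h), hfull z⟩
    have hc := congrArg Finset.card h
    rw [hU, Finset.card_biUnion, Finset.card_erase_of_mem (Finset.mem_univ _), Finset.card_univ,
      DihedralGroup.card] at hc
    · rw [← hc, Finset.sum_congr rfl (g := fun _ => O.card), Finset.sum_const, smul_eq_mul]
      intro A hA
      obtain ⟨u, -, rfl⟩ := Finset.mem_image.1 hA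
      exact hScard u
    · intro A hA B hB hAB
      exact Finset.disjoint_left.2 fun z hzA hzB => hAB (hdisj A hA B hB z hzA hzB)
  have hU2 : n - 1 = img.card * q := by
    have h : Finset.univ.erase (0 : ZMod n) =
        img.biUnion fun A => Finset.univ.filter fun i : ZMod n => r i ∈ A := by
      ext i
      simp only [Finset.mem_erase, Finset.mem_univ, and_true, Finset.mem_biUnion, Finset.mem_filter,
        true_and]
      refine ⟨fun hi => ?_, ?_⟩
      · obtain ⟨u, hu⟩ := (hmemU _).1 (hfull _ (r_ne_one hi))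
        exact ⟨S u, Finset.mem_image_of_mem _ (Finset.mem_univ u), hu⟩
      · rintro ⟨A, hA, hi⟩ rfl
        obtain ⟨u, -, rfl⟩ := Finset.mem_image.1 hA
        rw [← DihedralGroup.one_def] at hi
        exact hS1 u hi
    have hc := congrArg Finset.card h
    rw [Finset.card_biUnion, Finset.card_erase_of_mem (Finset.mem_univ _), Finset.card_univ,
      ZMod.card] at hc
    · rw [hc, Finset.sum_congr rfl (g := fun _ => q), Finset.sum_const, smul_eq_mul]
      intro A hA
      obtain ⟨u, -, rfl⟩ := Finset.mem_image.1 hA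
      refine (Finset.card_equiv u.mulLeft fun i => ?_).symm
      simp only [Finset.mem_filter, Finset.mem_univ, true_and, Units.mulLeft_apply]
      exact (hSrot u i).symm
    · intro A hA B hB hAB
      refine Finset.disjoint_left.2 fun i hiA hiB => hAB ?_
      exact hdisj A hA B hB (r i) (Finset.mem_filter.1 hiA).2 (Finset.mem_filter.1 hiB).2
  have hd1 : img.card = 1 := by
    rw [← Nat.dvd_one]
    have h1 : img.card ∣ 2 * n - 1 := ⟨_, hU1⟩
    have h2 : img.card ∣ 2 * (n - 1) := Dvd.dvd.mul_left ⟨_, hU2⟩ 2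
    have := Nat.dvd_sub h1 h2
    rwa [show 2 * n - 1 - 2 * (n - 1) = 1 by omega] at this
  obtain ⟨A, hA⟩ := Finset.card_eq_one.1 hd1
  obtain ⟨u, hu⟩ := (hmemU y).1 (hfull y hy)
  have : S u = S 1 := by
    have h1 : S u ∈ img := Finset.mem_image_of_mem _ (Finset.mem_univ u)
    have h2 : S 1 ∈ img := Finset.mem_image_of_mem _ (Finset.mem_univ 1)
    rw [hA, Finset.mem_singleton] at h1 h2
    rw [h1, h2]
  rw [this, hone] at hu
  simpa [hO] using hu

end CfsgLib.DihB
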