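import Cfsg.Agent.Lib.DihB.Power
import Cfsg.Agent.Lib.DihB.Arith
import Mathlib.NumberTheory.LSeries.PrimesInAP

/-!
Multipliers for invariant sets in a dihedral group.
-/

set_option autoImplicit false
set_option linter.style.haveILetI false

namespace CfsgLib.DihB

open DihedralGroup MonoidAlgebra

variable {G : Type*} [Group G] {n : ℕ} [NeZero n]

theorem exists_prime_eq_unit (u : (ZMod n)ˣ) (B : ℕ) :
    ∃ p : ℕ, p.Prime ∧ B < p ∧ (p : ZMod n) = u := by
  obtain ⟨p, hp, hpp, hmod⟩ :=
    Nat.forall_exists_prime_gt_and_modEq B (NeZero.ne n) (ZMod.val_coe_unit_coprime u)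
  refine ⟨p, hpp, hp, ?_⟩
  rw [(ZMod.natCast_eq_natCast_iff _ _ _).2 hmod, ZMod.natCast_zmod_val]

variable [MulAction G (DihedralGroup n)] [MulAction.IsPreprimitive G (DihedralGroup n)]

theorem pow_coeff_unit (hT : Trans G (DihedralGroup n)) {p : ℕ} [Fact p.Prime] (hp2 : p ≠ 2)
    {f : DihedralGroup n → ZMod p} (hf : Inv G f) {u : (ZMod n)ˣ} (hu : (p : ZMod n) = u) (i : ZMod n) :
    (ofK f ^ p).coeff (r ((u : ZMod n) * i)) = f (r i) := by
  rw [(pow_coeff f (hf.symm_rot hT)).1 (Or.inl hp2)]
  have : Finset.univ.filter (fun j : ZMod n => (p : ZMod n) * j = (u : ZMod n) * i) = {i} := by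
    ext j
    simp [hu]
  rw [this, Finset.sum_singleton]

/-- the image of an invariant set under a unit multiplier -/
theorem exists_multiplier (hT : Trans G (DihedralGroup n)) (hn : 1 < n)
    {S : Finset (DihedralGroup n)} (hS : Inv G (fun x => x ∈ S)) (u : (ZMod n)ˣ) :
    ∃ S' : Finset (DihedralGroup n), Inv G (fun x => x ∈ S') ∧
      (∀ i : ZMod n, r ((u : ZMod n) * i) ∈ S' ↔ r i ∈ S) ∧ S'.card = S.card := by
  classical
  obtain ⟨p, hp, hB, hu⟩ := exists_prime_eq_unit u (2 * n + 2)
  haveI : Fact p.Prime := ⟨hp⟩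
  let f : DihedralGroup n → ZMod p := fun x => if x ∈ S then 1 else 0
  have hf : Inv G f := fun g hg x => if_congr (iff_of_eq (hS g hg x)) rfl rfl
  set g : DihedralGroup n → ZMod p := fun x => (ofK f ^ p).coeff x with hgdef
  have hg : Inv G g := inv_pow_coeff hT hf
  have hrot : ∀ i, g (r ((u : ZMod n) * i)) = f (r i) := pow_coeff_unit hT (by omega) hf hu
  have h01 : ∀ x, g x = 0 ∨ g x = 1 := by
    have hrot' : ∀ j : ZMod n, g (r j) = 0 ∨ g (r j) = 1 := by
      intro j
      have h := hrot (↑u⁻¹ * j)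
      rw [Units.mul_inv_cancel_left] at h
      rw [h]
      simp only [f]
      split_ifs
      · exact Or.inr rfl
      · exact Or.inl rfl
    intro x
    rcases eq_or_ne x 1 with rfl | hx
    · rw [DihedralGroup.one_def]; exact hrot' 0
    · exact (ext_rot hT hn (hg.map fun a => a = 0 ∨ a = 1) (inv_const True)
        (fun i _ => eq_true (hrot' i)) hx).symm ▸ trivial
  refine ⟨Finset.univ.filter fun x => g x = 1, ?_, fun i => ?_, ?_⟩
  · simpa using hg.map fun a => a = 1
  · rw [Finset.mem_filter, hrot]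
    simp [f]
  · have h1 : ∑ x, g x = ((Finset.univ.filter fun x => g x = 1).card : ZMod p) := by
      rw [Finset.natCast_card_filter]
      refine Finset.sum_congr rfl fun x _ => ?_
      rcases h01 x with h | h <;> simp [h]
    have h2 : ∑ x, f x = (S.card : ZMod p) := by simp [f]
    rw [hgdef, sum_pow_coeff hT hf, h2] at h1
    have h3 := (ZMod.natCast_eq_natCast_iff _ _ _).1 h1
    have hle : ∀ s : Finset (DihedralGroup n), s.card < p := by
      intro s
      have := Finset.card_le_univ s
      rw [DihedralGroup.card] at this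
      omega
    exact (Nat.ModEq.eq_of_lt_of_lt h3 (hle _) (hle _)).symm

/-- the number of ways of writing an element as a product of two elements of `X` -/
def sq (X : Finset (DihedralGroup n)) (x : DihedralGroup n) : ℕ :=
  (X.filter fun y => y⁻¹ * x ∈ X).card

omit [MulAction.IsPreprimitive G (DihedralGroup n)] in
theorem inv_sq (hT : Trans G (DihedralGroup n)) {X : Finset (DihedralGroup n)}
    (hX : Inv G (fun x => x ∈ X)) : Inv G (sq X) := by
  classical
  intro g hg x
  unfold sq
  refine Finset.card_equiv (MulAction.toPerm g).symm fun y => ?_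
  simp only [Finset.mem_filter, MulAction.toPerm_symm_apply]
  have h1 : (g • g⁻¹ • y ∈ X) = (g⁻¹ • y ∈ X) := hX g hg (g⁻¹ • y)
  have h2 : ((g • g⁻¹ • y)⁻¹ * g • x ∈ X) = ((g⁻¹ • y)⁻¹ * x ∈ X) := hX.pair hT g (g⁻¹ • y) x
  rw [← h1, ← h2, smul_inv_smul]

/-- if the rotation part of an invariant set is preserved by unit multipliers, so is the rotation part
of its square -/
theorem sq_rat (hT : Trans G (DihedralGroup n)) (hn : 1 < n) {X : Finset (DihedralGroup n)}
    (hX : Inv G (fun x => x ∈ X)) (hrat : Rat' fun i => r i ∈ X) : Rat' fun i => sq X (r i) := by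
  classical
  intro u i
  obtain ⟨p, hp, hB, hu⟩ := exists_prime_eq_unit u (2 * n + 2)
  haveI : Fact p.Prime := ⟨hp⟩
  let f : DihedralGroup n → ZMod p := fun x => if x ∈ X then 1 else 0
  have hf : Inv G f := fun g hg x => if_congr (iff_of_eq (hX g hg x)) rfl rfl
  have hfix : ofK f ^ p = ofK f := by
    have hrot : ∀ j, (ofK f ^ p).coeff (r j) = f (r j) := by
      intro j
      have h := pow_coeff_unit hT (by omega) hf hu (↑u⁻¹ * j)
      rw [Units.mul_inv_cancel_left] at h
      rw [h]
      simp only [f, hrat u⁻¹ j]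
    ext x
    rw [coeff_ofK]
    rcases eq_or_ne x 1 with rfl | hx
    · rw [DihedralGroup.one_def]; exact hrot 0
    · exact ext_rot hT hn (inv_pow_coeff hT hf) hf (fun j _ => hrot j) hx
  let s : DihedralGroup n → ZMod p := fun x => (sq X x : ZMod p)
  have hs : Inv G s := (inv_sq hT hX).map fun a => (a : ZMod p)
  have hsq : ofK f * ofK f = ofK s := by
    rw [ofK_mul]
    congr 1
    funext x
    simp only [f, s, sq, Finset.natCast_card_filter, ite_mul, one_mul, zero_mul]
    rw [Finset.sum_ite, Finset.sum_const_zero, add_zero, Finset.filter_mem_eq_inter,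
      Finset.univ_inter]
  have hsfix : ofK s ^ p = ofK s := by
    rw [← hsq, (Commute.refl (ofK f)).mul_pow, hfix]
  have h := pow_coeff_unit hT (by omega) hs hu i
  rw [hsfix, coeff_ofK] at h
  have h3 := (ZMod.natCast_eq_natCast_iff _ _ _).1 h
  have hle : ∀ x, sq X x < p := by
    intro x
    have := Finset.card_le_univ (X.filter fun y => y⁻¹ * x ∈ X)
    rw [DihedralGroup.card] at this
    unfold sq
    omega
  exact Nat.ModEq.eq_of_lt_of_lt h3 (hle _) (hle _)

end CfsgLib.DihB
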