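import Cfsg.Agent.Lib.DihB.Basic
import Mathlib.Algebra.MonoidAlgebra.Basic
import Mathlib.Algebra.MonoidAlgebra.MapDomain
import Mathlib.Algebra.CharP.Lemmas
import Mathlib.Algebra.CharP.Algebra
import Mathlib.Data.ZMod.Basic
import Mathlib.Algebra.Field.ZMod
import Mathlib.FieldTheory.Finite.Basic

/-!
`p`-th powers in the group algebra of a dihedral group over `ZMod p`.
-/

set_option autoImplicit false
set_option linter.style.haveILetI false

namespace CfsgLib.DihB

open DihedralGroup MonoidAlgebra

variable {G : Type*} [Group G] {n p : ℕ} [NeZero n]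

/-- the element of the group algebra with given coefficients -/
noncomputable def ofK (f : DihedralGroup n → ZMod p) : MonoidAlgebra (ZMod p) (DihedralGroup n) :=
  ∑ x, single x (f x)

theorem coeff_ofK (f : DihedralGroup n → ZMod p) (x : DihedralGroup n) : (ofK f).coeff x = f x := by
  classical
  simp [ofK, coeff_sum, Finsupp.single_apply]

theorem ofK_mul (f g : DihedralGroup n → ZMod p) :
    ofK f * ofK g = ofK (fun x => ∑ y, f y * g (y⁻¹ * x)) := by
  classical
  ext x
  rw [coeff_ofK, coeff_mul_antidiag (ofK f) (ofK g) x (Finset.univ.image fun y => (y, y⁻¹ * x))]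
  · rw [Finset.sum_image fun a _ b _ h => (Prod.mk.inj h).1]
    simp only [coeff_ofK]
  · rintro ⟨a, b⟩
    simp only [Finset.mem_image, Finset.mem_univ, true_and, Prod.mk.injEq]
    constructor
    · rintro ⟨y, rfl, rfl⟩; rw [mul_inv_cancel_left]
    · intro h; exact ⟨a, rfl, by rw [← h, inv_mul_cancel_left]⟩

variable [MulAction G (DihedralGroup n)]

theorem exists_inv_pow (hT : Trans G (DihedralGroup n)) {f : DihedralGroup n → ZMod p} (hf : Inv G f) :
    ∀ k : ℕ, ∃ g, Inv G g ∧ ofK f ^ (k + 1) = ofK g ∧ ∑ x, g x = (∑ x, f x) ^ (k + 1)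
  | 0 => ⟨f, hf, pow_one _, (pow_one _).symm⟩
  | k + 1 => by
    obtain ⟨g, hg, hk, hsum⟩ := exists_inv_pow hT hf k
    refine ⟨_, hg.conv hf hT, by rw [pow_succ, hk, ofK_mul], ?_⟩
    rw [Finset.sum_comm, pow_succ, ← hsum, Finset.sum_mul]
    refine Finset.sum_congr rfl fun y _ => ?_
    rw [← Finset.mul_sum]
    congr 1
    exact Equiv.sum_comp (Equiv.mulLeft y⁻¹) f

omit [MulAction G (DihedralGroup n)]

variable [Fact p.Prime]

theorem inv_pow_coeff [MulAction G (DihedralGroup n)] (hT : Trans G (DihedralGroup n))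
    {f : DihedralGroup n → ZMod p} (hf : Inv G f) :
    Inv G (fun x => (ofK f ^ p).coeff x) := by
  obtain ⟨k, hk⟩ := Nat.exists_eq_succ_of_ne_zero (Fact.out : p.Prime).ne_zero
  obtain ⟨g, hg, hpow, -⟩ := exists_inv_pow (G := G) hT hf k
  have e : ofK f ^ p = ofK g := (congrArg (fun e : ℕ => ofK f ^ e) hk).trans hpow
  have : (fun x => (ofK f ^ p).coeff x) = g := funext fun x => by rw [e, coeff_ofK]
  rw [this]; exact hg

omit [NeZero n] in
theorem charP_algebra : CharP (MonoidAlgebra (ZMod p) (DihedralGroup n)) p :=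
  charP_of_injective_ringHom (f := MonoidAlgebra.singleOneRingHom (R := ZMod p) (M := DihedralGroup n))
    (fun a b h => by
      have := congrArg (fun F => MonoidAlgebra.coeff F 1) h
      simpa [MonoidAlgebra.singleOneRingHom] using this) p

/-- the sum over all rotations -/
theorem sum_dihedral {M : Type*} [AddCommMonoid M] (φ : DihedralGroup n → M) :
    ∑ x, φ x = (∑ i : ZMod n, φ (r i)) + ∑ i : ZMod n, φ (sr i) := by
  classical
  let e : DihedralGroup n ≃ ZMod n ⊕ ZMod n :=
    { toFun := fun x => match x with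
        | r i => Sum.inl i
        | sr i => Sum.inr i
      invFun := fun x => match x with
        | Sum.inl i => r i
        | Sum.inr i => sr i
      left_inv := fun x => by rcases x with i | i <;> rfl
      right_inv := fun x => by rcases x with i | i <;> rfl }
  rw [← e.symm.sum_comp φ, Fintype.sum_sum_type]
  rfl

omit [NeZero n] in
theorem coeff_map_rot_sr (z : MonoidAlgebra (ZMod p) (Multiplicative (ZMod n))) (i : ZMod n) :
    (mapDomainRingHom (ZMod p) (rotHom n) z).coeff (sr i) = 0 := by
  change Finsupp.mapDomain (rotHom n) z.coeff (sr i) = 0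
  refine Finsupp.mapDomain_of_notMem_range _ _ ?_
  rintro ⟨j, hj⟩
  exact nomatch hj

/-- the `p`-th power: rotation part, and the reflection part in the degenerate case -/
theorem pow_coeff (f : DihedralGroup n → ZMod p) (hs : ∀ i, f (r (-i)) = f (r i)) :
    ((p ≠ 2 ∨ ∀ d, ∑ i, f (sr i) * f (sr (i + d)) = 0) → ∀ c, (ofK f ^ p).coeff (r c) =
      ∑ i ∈ Finset.univ.filter (fun i : ZMod n => (p : ZMod n) * i = c), f (r i)) ∧
    ((∀ d, ∑ i, f (sr i) * f (sr (i + d)) = 0) → ∀ i, (ofK f ^ p).coeff (sr i) = 0) := by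
  classical
  haveI := charP_algebra (n := n) (p := p)
  haveI : ExpChar (MonoidAlgebra (ZMod p) (DihedralGroup n)) p := ExpChar.prime Fact.out
  haveI : CharP (MonoidAlgebra (ZMod p) (Multiplicative (ZMod n))) p :=
    charP_of_injective_ringHom
      (f := MonoidAlgebra.singleOneRingHom (R := ZMod p) (M := Multiplicative (ZMod n)))
      (fun a b h => by
        have := congrArg (fun F => MonoidAlgebra.coeff F 1) h
        simpa [MonoidAlgebra.singleOneRingHom] using this) p
  haveI : ExpChar (MonoidAlgebra (ZMod p) (Multiplicative (ZMod n))) p := ExpChar.prime Fact.out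
  set ι := mapDomainRingHom (ZMod p) (rotHom n) with hι
  set X : MonoidAlgebra (ZMod p) (DihedralGroup n) := ∑ i, single (r i) (f (r i)) with hX
  set Y : MonoidAlgebra (ZMod p) (DihedralGroup n) := ∑ i, single (sr i) (f (sr i)) with hY
  have hsplit : ofK f = X + Y := sum_dihedral _
  have hcomm : Commute X Y := by
    rw [Commute, SemiconjBy, hX, hY, Finset.sum_mul_sum, Finset.sum_mul_sum]
    conv_rhs => rw [Finset.sum_comm]
    refine Fintype.sum_equiv (Equiv.neg (ZMod n)) _ _ fun i => Finset.sum_congr rfl fun j _ => ?_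
    simp only [single_mul_single, r_mul_sr, sr_mul_r, Equiv.neg_apply, hs, mul_comm (f (sr j))]
    rw [sub_eq_add_neg]
  have hXι : X = ι (∑ i, single (Multiplicative.ofAdd i) (f (r i))) := by
    rw [map_sum]
    refine Finset.sum_congr rfl fun i _ => ?_
    exact (mapDomain_single (R := ZMod p)).symm
  have hXp : X ^ p = ∑ i, single (r ((p : ZMod n) * i)) (f (r i)) := by
    rw [hXι, ← map_pow, sum_pow_char, map_sum]
    refine Finset.sum_congr rfl fun i _ => ?_
    rw [single_pow, ZMod.pow_card, ← ofAdd_nsmul, nsmul_eq_mul]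
    exact mapDomain_single (R := ZMod p)
  have hY2 : Y * Y = ι (∑ d, single (Multiplicative.ofAdd d) (∑ i, f (sr i) * f (sr (i + d)))) := by
    rw [hY, Finset.sum_mul_sum]
    have : ∀ i : ZMod n, (∑ j, single (sr i) (f (sr i)) * single (sr j) (f (sr j))) =
        ∑ d, ι (single (Multiplicative.ofAdd d) (f (sr i) * f (sr (i + d)))) := by
      intro i
      refine (Fintype.sum_equiv (Equiv.addLeft i) _ _ fun d => ?_).symm
      simp only [Equiv.coe_addLeft, single_mul_single, sr_mul_sr, add_sub_cancel_left]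
      exact mapDomain_single (R := ZMod p)
    rw [Finset.sum_congr rfl (fun i _ => this i), Finset.sum_comm, map_sum]
    refine Finset.sum_congr rfl fun d _ => ?_
    rw [← map_sum]
    congr 1
    ext x
    simp [coeff_sum, Finsupp.single_apply]
  have hYz : ∀ z i, (Y * ι z).coeff (r i) = 0 := by
    intro z i
    rw [hY, Finset.sum_mul]
    simp only [coeff_sum, Finsupp.finsetSum_apply, coeff_single_mul_apply]
    refine Finset.sum_eq_zero fun j _ => ?_
    rw [inv_sr, sr_mul_r, coeff_map_rot_sr, mul_zero]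
  have hp := (Fact.out : p.Prime).two_le
  have hY0 : (∀ d, ∑ i, f (sr i) * f (sr (i + d)) = 0) → Y ^ p = 0 := by
    intro h
    have h0 : Y * Y = 0 := by rw [hY2]; simp [h]
    refine (congrArg (fun e : ℕ => Y ^ e) (show p = (p - 2) + 2 by omega)).trans ?_
    rw [pow_add, pow_two, h0, mul_zero]
  have hpow : ofK f ^ p = X ^ p + Y ^ p := by
    rw [hsplit, add_pow_char_of_commute _ hcomm]
  refine ⟨fun h c => ?_, fun h i => ?_⟩
  · have hYc : (Y ^ p).coeff (r c) = 0 := by
      rcases h with h | h
      · obtain ⟨k, hk⟩ := ((Fact.out : p.Prime).eq_two_or_odd').resolve_left h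
        rw [congrArg (fun e : ℕ => Y ^ e) hk, pow_succ', pow_mul, pow_two, hY2, ← map_pow]
        exact hYz _ _
      · rw [hY0 h]; rfl
    rw [hpow, coeff_add, Finsupp.add_apply, hYc, add_zero, hXp]
    simp [coeff_sum, Finsupp.single_apply, Finset.sum_filter]
  · rw [hpow, hY0 h, add_zero, hXp]
    simp [coeff_sum]

theorem sum_pow_coeff [MulAction G (DihedralGroup n)] (hT : Trans G (DihedralGroup n))
    {f : DihedralGroup n → ZMod p} (hf : Inv G f) :
    ∑ x, (ofK f ^ p).coeff x = ∑ x, f x := by
  obtain ⟨k, hk⟩ := Nat.exists_eq_succ_of_ne_zero (Fact.out : p.Prime).ne_zero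
  obtain ⟨g, -, hpow, hsum⟩ := exists_inv_pow (G := G) hT hf k
  have e : ofK f ^ p = ofK g := (congrArg (fun e : ℕ => ofK f ^ e) hk).trans hpow
  simp only [e, coeff_ofK, hsum]
  exact (congrArg (fun e : ℕ => (∑ x, f x) ^ e) hk).symm.trans (ZMod.pow_card _)

end CfsgLib.DihB
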